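import Mathlib
import Cfsg.Agent.H270.Crit.Base
import Cfsg.Agent.H463.LieReg
import Cfsg.Agent.S0245
import Cfsg.Agent.S0814
import Cfsg.Agent.S0243
import Cfsg.Agent.S2601
import Cfsg.Agent.SmallSimple.Simple168Classes
import Cfsg.Agent.S0254
import Cfsg.Agent.S2602
import Cfsg.Agent.S2119
import Cfsg.Agent.S0280
import Cfsg.Agent.S0815
import Cfsg.Agent.Prune
set_option linter.all false

section
prune_inst 0x7ff3fdfcffbb7ffeffff7e7ffef9fffe3bd3dfffffdff94bffee7bff8fdfa31a0be5fbaf0de0b0ff4ed6e29610b87853fb7eeeffee6fdc7ffffdfff45ffbee4ff7ffb90831969c340f3c6ffff3f07f8e7f3fffffffffffffffffffffffffffbeffffffffffff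

-- part: H548/LieNum
section
set_option linter.all false
open scoped Cfsg.Agent.FastGrp

/-!
# Numerical criteria for `Crit` in groups of Lie type (helper548, for S4239)

The element is the regular unipotent element of `H463.LieReg`.
-/

set_option autoImplicit false

namespace Cfsg.Agent.H548.LieNum

open Cfsg Cfsg.Agent.H548.Crit

universe u

/-- A regular unipotent element has centralizer of order at most `p ^ N`. -/
theorem exists_reg {G : Type u} [Group G] [Finite G] (hs : IsSimpleGroup G) {p N M : ℕ} (hG : IsLieTypeChar p G)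
    (hS : Nat.card G = p ^ N * M) (hM : ¬ p ∣ M) :
    ∃ x : G, Nat.card (Subgroup.centralizer ({x} : Set G)) ≤ p ^ N := by
  have hp := H463.LieReg.prime hG
  have : Fact p.Prime := ⟨hp⟩
  obtain ⟨z, -, -, hz⟩ := H463.LieReg.exists_regular_isPGroup hs hG
  refine ⟨z, ?_⟩
  obtain ⟨k, hk⟩ := hz.exists_card_eq
  have h1 : p ^ k ∣ p ^ N * M := by
    rw [← hk, ← hS]
    exact Subgroup.card_subgroup_dvd_card _
  have hM0 : M ≠ 0 := fun h => hM (h ▸ dvd_zero p)
  have h2 : (p ^ k).Coprime M := Nat.Coprime.pow_left k ((Nat.Prime.coprime_iff_not_dvd hp).2 hM)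
  rw [hk]
  exact Nat.le_of_dvd (pow_pos hp.pos N) (h2.dvd_of_dvd_mul_right h1)

/-- The numerical criterion. -/
theorem crit_num {G : Type u} [Group G] [Finite G] (hs : IsSimpleGroup G) {p f q N D M' o a b : ℕ}
    (hG : IsLieTypeChar p G) (hq : q = p ^ f) (hf : 1 ≤ f) (hS : D * Nat.card G = q ^ N * M')
    (hqM : Nat.Coprime q M') (ho : Nat.card (Out G) ≤ o) (hab : Nat.Coprime a b) (hM : a * b * D ∣ M')
    (ha : 2 * o ≤ a) (hb : 2 * o ≤ b) (h : 2 * o * q ^ N * D ≤ M') (hM0 : 0 < M') : Crit G := by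
  have hp := H463.LieReg.prime hG
  have hD : 0 < D := Nat.pos_of_ne_zero fun h0 => by
    rw [h0, mul_zero] at hM
    exact hM0.ne' (Nat.eq_zero_of_zero_dvd hM)
  obtain ⟨M, hMeq⟩ : D ∣ M' := (Dvd.intro_left (a * b) rfl).trans hM
  have hSM : Nat.card G = q ^ N * M := by
    apply Nat.eq_of_mul_eq_mul_left hD
    rw [hS, hMeq]
    ring
  have hSM' : Nat.card G = p ^ (f * N) * M := by rw [hSM, hq, ← pow_mul]
  have hpM' : ¬ p ∣ M' := by
    intro hd
    have h1 : p ∣ q := by rw [hq]; exact dvd_pow_self p (by omega)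
    exact hp.one_lt.ne' (Nat.dvd_one.1 (hqM ▸ Nat.dvd_gcd h1 hd))
  have hpM : ¬ p ∣ M := fun hd => hpM' (hMeq ▸ hd.mul_left D)
  obtain ⟨x, hx⟩ := exists_reg hs hG hSM' hpM
  refine crit_of_lie x hp hSM' hpM hx ho hab ?_ ha hb ?_
  · have h1 : D * (a * b) ∣ D * M := by rw [← hMeq, mul_comm D]; exact hM
    exact Nat.dvd_of_mul_dvd_mul_left hD h1
  · have h1 : D * (2 * o * Nat.card (Subgroup.centralizer ({x} : Set G))) ≤ D * M := by
      rw [← hMeq]
      refine le_trans ?_ h
      rw [pow_mul, ← hq] at hx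
      calc D * (2 * o * Nat.card (Subgroup.centralizer ({x} : Set G))) ≤ D * (2 * o * q ^ N) := by gcongr
        _ = _ := by ring
    exact Nat.le_of_mul_le_mul_left h1 hD

/-- Small groups: prime by prime. -/
theorem crit_expl {G : Type u} [Group G] [Finite G] {n o c : ℕ} (x : G) (hn : Nat.card G = n) (hn0 : n ≠ 0)
    (ho : Nat.card (Out G) = o) (hx : Nat.card (Subgroup.centralizer ({x} : Set G)) ≤ c) (L : List (ℕ × ℕ × ℕ))
    (hL : n ∣ (L.map fun t => t.1 ^ t.2.1).prod) (hL1 : ∀ t ∈ L, t.1.Prime ∧ ¬ t.1 ^ (t.2.1 + 1) ∣ n ∧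
      ¬ t.1 ^ (t.2.2 + 1) ∣ o ∧ 2 * t.1 ^ t.2.2 * t.1 ^ t.2.1 * c ≤ n) (h0 : 2 * o * c ≤ n) : Crit G := by
  have hopos : 0 < o := by rw [← ho]; exact card_out_pos
  have key : ∀ {p k m : ℕ}, p.Prime → m ≠ 0 → ¬ p ^ (k + 1) ∣ m → ordProj[p] m ≤ p ^ k := by
    intro p k m hp hm hk
    apply Nat.pow_le_pow_right hp.pos
    by_contra hlt
    push Not at hlt
    exact hk ((hp.pow_dvd_iff_le_factorization hm).2 hlt)
  refine crit_of_forall x hx fun p hp => ?_
  rw [hn, ho]
  by_cases hex : ∃ t ∈ L, t.1 = p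
  · obtain ⟨t, ht, rfl⟩ := hex
    obtain ⟨-, h1, h2, h3⟩ := hL1 t ht
    refine le_trans ?_ h3
    have h4 := key hp hn0 h1
    have h5 := key hp hopos.ne' h2
    gcongr
  · push Not at hex
    have hpn : ¬ p ∣ n := by
      intro hd
      have h1 := hd.trans hL
      rw [hp.prime.dvd_prod_iff] at h1
      obtain ⟨y, hy, hpy⟩ := h1
      obtain ⟨t, ht, rfl⟩ := List.mem_map.1 hy
      have h2 := hp.dvd_of_dvd_pow hpy
      exact hex t ht ((Nat.prime_dvd_prime_iff_eq hp (hL1 t ht).1).1 h2).symm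
    have h1 : ordProj[p] n = 1 := by rw [Nat.factorization_eq_zero_of_not_dvd hpn, pow_zero]
    have h2 : ordProj[p] o ≤ o := Nat.le_of_dvd hopos (Nat.ordProj_dvd _ _)
    rw [h1, mul_one]
    exact le_trans (by gcongr) h0

/-- `|Out S| |S| = |Aut S|` if the centre is trivial. -/
theorem card_out_mul {S : Type u} [Group S] [Finite S] (hs : IsSimpleGroup S) (hna : ¬ IsMulCommutative S) :
    Nat.card (Out S) * Nat.card S = Nat.card (MulAut S) := by
  have hker : (MulAut.conj (G := S)).ker = ⊥ := by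
    have h1 : (MulAut.conj (G := S)).ker.Normal := MonoidHom.normal_ker _
    rcases h1.eq_bot_or_eq_top with h | h
    · exact h
    · exfalso
      apply hna
      refine ⟨⟨fun a b => ?_⟩⟩
      have h2 : a ∈ (MulAut.conj (G := S)).ker := h ▸ Subgroup.mem_top a
      have h3 := congrArg (fun e : MulAut S => e b) (MonoidHom.mem_ker.1 h2)
      have h4 : a * b * a⁻¹ = b := h3
      rw [mul_inv_eq_iff_eq_mul] at h4
      exact h4
  have h1 : Nat.card (Inn S) = Nat.card S :=
    (Nat.card_congr (MonoidHom.ofInjective ((MonoidHom.ker_eq_bot_iff _).1 hker)).toEquiv).symm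
  rw [← h1]
  exact (Subgroup.card_eq_card_quotient_mul_card_subgroup (Inn S)).symm

theorem card_out_of_mulAut {S : Type u} [Group S] [Finite S] (hs : IsSimpleGroup S) (hna : ¬ IsMulCommutative S) {o : ℕ}
    (h : Nat.card (MulAut S) = o * Nat.card S) : Nat.card (Out S) = o := by
  have h1 := card_out_mul hs hna
  rw [h] at h1
  exact Nat.eq_of_mul_eq_mul_right Nat.card_pos h1

/-! ### Geometric sums -/

/-- `1 + q + ... + q ^ (k - 1)` -/
def gs (q k : ℕ) : ℕ := ∑ i ∈ Finset.range k, q ^ i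

theorem gs_succ (q k : ℕ) : gs q (k + 1) = q * gs q k + 1 := by
  unfold gs
  rw [Finset.sum_range_succ', Finset.mul_sum, pow_zero]
  congr 1
  exact Finset.sum_congr rfl fun i _ => pow_succ' q i

theorem gs_coprime (q k : ℕ) : Nat.Coprime (gs q k) (gs q (k + 1)) := by
  rw [gs_succ, mul_comm, Nat.coprime_mul_left_add_right]
  exact Nat.coprime_one_right _

theorem gs_mul {q : ℕ} (hq : 1 ≤ q) (k : ℕ) : (q - 1) * gs q k = q ^ k - 1 := by
  obtain ⟨r, rfl⟩ : ∃ r, q = r + 1 := ⟨q - 1, by omega⟩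
  induction k with
  | zero => simp [gs]
  | succ k ih =>
    have h1 : 1 ≤ (r + 1) ^ k := Nat.one_le_pow _ _ (by omega)
    rw [gs_succ, mul_add, mul_one, mul_left_comm, ih, Nat.mul_sub, pow_succ']
    have h2 : r + 1 ≤ (r + 1) * (r + 1) ^ k := Nat.le_mul_of_pos_right _ (by omega)
    omega

theorem gs_mono {q : ℕ} {k l : ℕ} (h : k ≤ l) : gs q k ≤ gs q l :=
  Finset.sum_le_sum_of_subset (Finset.range_subset_range.2 h)

theorem two_mul_f_le {p f q : ℕ} (hp : 2 ≤ p) (hf : 1 ≤ f) (hq : q = p ^ f) : 2 * f ≤ q := by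
  have h1 : 2 ^ f ≤ q := by rw [hq]; exact Nat.pow_le_pow_left hp f
  have h2 : 2 * f ≤ 2 ^ f := by
    obtain ⟨k, rfl⟩ : ∃ k, f = k + 1 := ⟨f - 1, by omega⟩
    have := Nat.lt_two_pow_self (n := k)
    rw [pow_succ]; omega
  omega

theorem three_mul_f_le {p f q : ℕ} (hp : 3 ≤ p) (hf : 1 ≤ f) (hq : q = p ^ f) : 3 * f ≤ q := by
  have h1 : 3 ^ f ≤ q := by rw [hq]; exact Nat.pow_le_pow_left hp f
  have h2 : 3 * f ≤ 3 ^ f := by
    obtain ⟨k, rfl⟩ : ∃ k, f = k + 1 := ⟨f - 1, by omega⟩
    have := Nat.lt_pow_self (n := k) (a := 3) (by norm_num)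
    rw [pow_succ]; omega
  omega

end Cfsg.Agent.H548.LieNum

private theorem dce_39964e610961 : _root_.True := by
  try have : _root_.True := by simp only [_root_.Cfsg.Agent.H548.LieNum.gs.eq_1]
  exact _root_.True.intro
end

-- part: H548/RowPSp
section
prune_inst 0xc02030040000000000000010000000004000000000600000180003020106530000400100448008001046928018000000000000100000000000003000000300000068540412100d0c000000801004000000000000000000000000000000041000000000000
set_option linter.all false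
open scoped Cfsg.Agent.FastGrp

-- part: H548/LieArith
section
/-!
# Products of `q ^ i ± 1` (helper548, for S4239)
-/

set_option autoImplicit false

namespace Cfsg.Agent.H548.LieArith

open Cfsg.Agent.H548.LieNum

theorem cop_sub {q i : ℕ} (hq : 1 ≤ q) (hi : i ≠ 0) : Nat.Coprime q (q ^ i - 1) := by
  have h1 : 1 ≤ q ^ i := Nat.one_le_pow _ _ hq
  have h2 : Nat.Coprime (q ^ i) (q ^ i - 1) := by
    rw [Nat.coprime_self_sub_right h1]
    exact Nat.coprime_one_right _
  exact Nat.Coprime.coprime_dvd_left (dvd_pow_self q hi) h2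

theorem cop_add {q i : ℕ} (hi : i ≠ 0) : Nat.Coprime q (q ^ i + 1) := by
  have h2 : Nat.Coprime (q ^ i) (q ^ i + 1) := by simp
  exact Nat.Coprime.coprime_dvd_left (dvd_pow_self q hi) h2

/-! ### Symplectic products -/

/-- `∏_{i=1}^m (q^{2i} - 1)` -/
def sp (q m : ℕ) : ℕ := ∏ i ∈ Finset.range m, (q ^ (2 * (i + 1)) - 1)

theorem sp_succ (q m : ℕ) : sp q (m + 1) = sp q m * (q ^ (2 * (m + 1)) - 1) := Finset.prod_range_succ _ _

theorem sp_pos {q : ℕ} (hq : 2 ≤ q) (m : ℕ) : 0 < sp q m :=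
  Finset.prod_pos fun i _ => Nat.sub_pos_of_lt (Nat.one_lt_pow (by omega) (by omega))

theorem sp_cop {q : ℕ} (hq : 1 ≤ q) (m : ℕ) : Nat.Coprime q (sp q m) :=
  Nat.Coprime.prod_right fun i _ => cop_sub hq (by omega)

theorem sp_bound' {q : ℕ} (hq : 2 ≤ q) (m : ℕ) :
    (q : ℤ) ^ (m * (m + 1)) * (2 * (q : ℤ) ^ (2 * m) + 1) ≤ 3 * (sp q m : ℤ) * (q : ℤ) ^ (2 * m) ∧
      (sp q m : ℤ) ≤ (q : ℤ) ^ (m * (m + 1)) := by
  induction m with
  | zero => simp only [zero_add, mul_one, pow_zero, mul_zero, Int.reduceAdd, one_mul, sp, Finset.range_zero, Finset.prod_empty, Nat.cast_one, Std.le_refl, and_self]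
  | succ m ih =>
    obtain ⟨ih1, ih2⟩ := ih
    have h1 : 1 ≤ q ^ (2 * (m + 1)) := Nat.one_le_pow _ _ (by omega)
    rw [sp_succ, Nat.cast_mul, Nat.cast_sub h1]
    push_cast
    set P : ℤ := (sp q m : ℤ)
    set E : ℤ := (q : ℤ) ^ (m * (m + 1)) with hE
    set Y : ℤ := (q : ℤ) ^ (2 * m) with hY
    have hX : (q : ℤ) ^ (2 * (m + 1)) = (q : ℤ) ^ 2 * Y := by rw [hY, ← pow_add]; congr 1; ring
    have hE' : (q : ℤ) ^ ((m + 1) * (m + 1 + 1)) = E * ((q : ℤ) ^ 2 * Y) := by
      rw [hE, hY, ← pow_add, ← pow_add]; congr 1; ring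
    have hq' : (4 : ℤ) ≤ (q : ℤ) ^ 2 := by
      have : (2 : ℤ) ≤ q := by exact_mod_cast hq
      nlinarith only [hq]
    have hEpos : 0 < E := by positivity
    have hYpos : 0 < Y := by positivity
    have hPpos : 0 ≤ P := Int.natCast_nonneg _
    rw [hX, hE']
    constructor
    · have h3 : E * (2 * Y + 1) * ((q : ℤ) ^ 2 * ((q : ℤ) ^ 2 * Y)) - 3 * E * ((q : ℤ) ^ 2 * Y) ≤
          3 * P * Y * ((q : ℤ) ^ 2 * ((q : ℤ) ^ 2 * Y)) - 3 * P * ((q : ℤ) ^ 2 * Y) := by
        have a1 : E * (2 * Y + 1) * ((q : ℤ) ^ 2 * ((q : ℤ) ^ 2 * Y)) ≤ 3 * P * Y * ((q : ℤ) ^ 2 * ((q : ℤ) ^ 2 * Y)) :=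
          mul_le_mul_of_nonneg_right ih1 (by positivity)
        have a2 : 3 * P * ((q : ℤ) ^ 2 * Y) ≤ 3 * E * ((q : ℤ) ^ 2 * Y) :=
          mul_le_mul_of_nonneg_right (by linarith only [ih2]) (by positivity)
        linarith only [a1, a2]
      have h4 : 0 ≤ E * ((q : ℤ) ^ 2 * Y) * ((q : ℤ) ^ 2 - 4) := by
        apply mul_nonneg (by positivity) (by linarith only [hq'])
      nlinarith only [h3, h4, h3, h4]
    · have h5 : P * ((q : ℤ) ^ 2 * Y - 1) ≤ E * ((q : ℤ) ^ 2 * Y) := by
        have : 0 ≤ (q : ℤ) ^ 2 * Y := by positivity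
        nlinarith only [hEpos, h1, ih2, hX]
      exact h5

/-- `2 q^{m(m+1)} ≤ 3 ∏ (q^{2i} - 1)` -/
theorem sp_bound {q : ℕ} (hq : 2 ≤ q) (m : ℕ) : 2 * q ^ (m * (m + 1)) ≤ 3 * sp q m := by
  have h1 := (sp_bound' hq m).1
  have h2 : (0 : ℤ) < (q : ℤ) ^ (2 * m) := by positivity
  have h3 : (0 : ℤ) < (q : ℤ) ^ (m * (m + 1)) := by positivity
  have h4 : 2 * (q : ℤ) ^ (m * (m + 1)) * (q : ℤ) ^ (2 * m) ≤ 3 * (sp q m : ℤ) * (q : ℤ) ^ (2 * m) := by nlinarith only [h1, h3]
  have h5 := le_of_mul_le_mul_right h4 h2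
  exact_mod_cast h5

theorem sq_gs {q : ℕ} (hq : 1 ≤ q) (k : ℕ) : (q ^ 2 - 1) * gs (q ^ 2) k = q ^ (2 * k) - 1 := by
  rw [gs_mul (Nat.one_le_pow _ _ hq), ← pow_mul]

/-- coprime factors of the symplectic product -/
theorem sp_dvd {q : ℕ} (hq : 1 ≤ q) (m : ℕ) : gs (q ^ 2) (m + 1) * gs (q ^ 2) (m + 2) * (q ^ 2 - 1) ∣ sp q (m + 2) := by
  rw [sp_succ, sp_succ]
  have h1 := sq_gs hq (m + 1)
  have h2 := sq_gs hq (m + 2)
  rw [← h1, show m + 1 + 1 = m + 2 by ring, ← h2]
  exact ⟨sp q m * (q ^ 2 - 1), by ring⟩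

/-! ### Linear products -/

/-- `∏_{j=2}^{k+1} (q^j - 1)` -/
def ln (q k : ℕ) : ℕ := ∏ i ∈ Finset.range k, (q ^ (i + 2) - 1)

/-- `Σ_{j=2}^{k+1} j` -/
def lnE (k : ℕ) : ℕ := ∑ i ∈ Finset.range k, (i + 2)

theorem ln_succ (q k : ℕ) : ln q (k + 1) = ln q k * (q ^ (k + 2) - 1) := Finset.prod_range_succ _ _

theorem lnE_succ (k : ℕ) : lnE (k + 1) = lnE k + (k + 2) := Finset.sum_range_succ _ _

theorem ln_pos {q : ℕ} (hq : 2 ≤ q) (k : ℕ) : 0 < ln q k :=
  Finset.prod_pos fun i _ => Nat.sub_pos_of_lt (Nat.one_lt_pow (by omega) (by omega))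

theorem ln_cop {q : ℕ} (hq : 1 ≤ q) (k : ℕ) : Nat.Coprime q (ln q k) :=
  Nat.Coprime.prod_right fun i _ => cop_sub hq (by omega)

theorem ln_bound' {q : ℕ} (hq : 2 ≤ q) (k : ℕ) :
    (q : ℤ) ^ lnE (k + 1) * ((q : ℤ) ^ (k + 2) + 2) ≤ 2 * (ln q (k + 1) : ℤ) * (q : ℤ) ^ (k + 2) ∧
      (ln q (k + 1) : ℤ) ≤ (q : ℤ) ^ lnE (k + 1) := by
  have hq' : (2 : ℤ) ≤ q := by exact_mod_cast hq
  induction k with
  | zero =>
    have h1 : 1 ≤ q ^ 2 := Nat.one_le_pow _ _ (by omega)
    have e1 : ln q (0 + 1) = q ^ 2 - 1 := by simp only [ln, zero_add, Finset.range_one, Finset.prod_singleton]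
    have e2 : lnE (0 + 1) = 2 := by simp [lnE]
    rw [e1, e2, Nat.cast_sub h1]
    push_cast
    constructor
    · nlinarith only [hq, sq_nonneg ((q : ℤ)), mul_nonneg (sq_nonneg (q : ℤ)) (show (0 : ℤ) ≤ (q : ℤ) ^ 2 - 4 by nlinarith only [hq])]
    · linarith only []
  | succ k ih =>
    obtain ⟨ih1, ih2⟩ := ih
    have h1 : 1 ≤ q ^ (k + 1 + 2) := Nat.one_le_pow _ _ (by omega)
    rw [ln_succ, lnE_succ, Nat.cast_mul, Nat.cast_sub h1]
    push_cast
    set P : ℤ := (ln q (k + 1) : ℤ)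
    set E : ℤ := (q : ℤ) ^ lnE (k + 1) with hE
    set Y : ℤ := (q : ℤ) ^ (k + 2) with hY
    have hX : (q : ℤ) ^ (k + 1 + 2) = (q : ℤ) * Y := by rw [hY, ← pow_succ']
    have hE' : (q : ℤ) ^ (lnE (k + 1) + (k + 1 + 2)) = E * ((q : ℤ) * Y) := by rw [pow_add, hX]
    have hEpos : 0 < E := by positivity
    have hYpos : 0 < Y := by positivity
    have hPpos : 0 ≤ P := Int.natCast_nonneg _
    rw [hX, hE']
    constructor
    · have a1 : E * (Y + 2) * ((q : ℤ) * ((q : ℤ) * Y)) ≤ 2 * P * Y * ((q : ℤ) * ((q : ℤ) * Y)) :=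
        mul_le_mul_of_nonneg_right ih1 (by positivity)
      have a2 : 2 * P * ((q : ℤ) * Y) ≤ 2 * E * ((q : ℤ) * Y) :=
        mul_le_mul_of_nonneg_right (by linarith only [ih2]) (by positivity)
      have h4 : 0 ≤ E * ((q : ℤ) * Y) * ((q : ℤ) - 2) := by
        apply mul_nonneg (by positivity) (by linarith only [hq])
      nlinarith only [a1, a2, h4, a1, a2, h4]
    · have : 0 ≤ (q : ℤ) * Y := by positivity
      nlinarith only [hEpos, h1, ih2, hX]

/-- `q^E ≤ 2 ∏ (q^j - 1)` -/
theorem ln_bound {q : ℕ} (hq : 2 ≤ q) (k : ℕ) : q ^ lnE (k + 1) ≤ 2 * ln q (k + 1) := by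
  have h1 := (ln_bound' hq k).1
  have h2 : (0 : ℤ) < (q : ℤ) ^ (k + 2) := by positivity
  have h3 : (0 : ℤ) < (q : ℤ) ^ lnE (k + 1) := by positivity
  have h4 : (q : ℤ) ^ lnE (k + 1) * (q : ℤ) ^ (k + 2) ≤ 2 * (ln q (k + 1) : ℤ) * (q : ℤ) ^ (k + 2) := by nlinarith only [h1, h3]
  have h5 := le_of_mul_le_mul_right h4 h2
  exact_mod_cast h5

theorem ln_dvd {q : ℕ} (hq : 1 ≤ q) (k : ℕ) : gs q (k + 2) * gs q (k + 3) * (q - 1) ∣ ln q (k + 2) := by
  rw [ln_succ, ln_succ]
  have h1 := gs_mul hq (k + 2)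
  have h2 := gs_mul hq (k + 3)
  rw [← h1, show k + 1 + 2 = k + 3 by ring, ← h2]
  exact ⟨ln q k * (q - 1), by ring⟩

/-! ### Unitary products -/

/-- `q^j - (-1)^j` -/
def un (q j : ℕ) : ℕ := if Even j then q ^ j - 1 else q ^ j + 1

theorem un_even {q j : ℕ} (h : Even j) : un q j = q ^ j - 1 := if_pos h

theorem un_odd {q j : ℕ} (h : ¬ Even j) : un q j = q ^ j + 1 := if_neg h

theorem un_pos {q j : ℕ} (hq : 2 ≤ q) (hj : j ≠ 0) : 0 < un q j := by
  unfold un
  split_ifs
  · exact Nat.sub_pos_of_lt (Nat.one_lt_pow hj (by omega))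
  · omega

theorem un_cop {q j : ℕ} (hq : 1 ≤ q) (hj : j ≠ 0) : Nat.Coprime q (un q j) := by
  unfold un
  split_ifs
  · exact cop_sub hq hj
  · exact cop_add hj

/-- `(q^j - (-1)^j) / (q + 1)` -/
def hs (q : ℕ) : ℕ → ℕ
  | 0 => 0
  | (k + 1) => q ^ k - hs q k

theorem hs_le {q : ℕ} (hq : 1 ≤ q) (k : ℕ) : hs q k ≤ q ^ k := by
  cases k with
  | zero => exact Nat.zero_le _
  | succ k =>
    change q ^ k - hs q k ≤ q ^ (k + 1)
    have : q ^ k ≤ q ^ (k + 1) := Nat.pow_le_pow_right hq (Nat.le_succ _)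
    omega

theorem hs_add {q : ℕ} (hq : 1 ≤ q) (k : ℕ) : hs q (k + 1) + hs q k = q ^ k := by
  change q ^ k - hs q k + hs q k = q ^ k
  exact Nat.sub_add_cancel (hs_le hq k)

theorem hs_mul {q : ℕ} (hq : 1 ≤ q) (k : ℕ) : (q + 1) * hs q k = un q k := by
  induction k with
  | zero => simp only [hs, mul_zero, un, Even.zero, ↓reduceIte, pow_zero, tsub_self]
  | succ k ih =>
    have h1 := hs_add hq k
    have h2 : (q + 1) * hs q (k + 1) + (q + 1) * hs q k = (q + 1) * q ^ k := by rw [← mul_add, h1]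
    rw [ih] at h2
    have h3 : 1 ≤ q ^ k := Nat.one_le_pow _ _ hq
    have h4 : (q + 1) * q ^ k = q ^ (k + 1) + q ^ k := by ring
    rw [h4] at h2
    by_cases hk : Even k
    · rw [un_even hk] at h2
      rw [un_odd (by rw [Nat.even_add_one]; exact not_not.2 hk)]
      omega
    · rw [un_odd hk] at h2
      rw [un_even (by rw [Nat.even_add_one]; exact hk)]
      omega

theorem hs_cop {q : ℕ} (hq : 1 ≤ q) (k : ℕ) : Nat.Coprime (hs q (k + 1)) (hs q (k + 2)) := by
  have h1 := hs_add hq (k + 1)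
  have h2 : Nat.Coprime (hs q (k + 1)) q := by
    have h3 := (un_cop hq (Nat.succ_ne_zero k)).symm
    rw [← hs_mul hq] at h3
    exact Nat.Coprime.coprime_dvd_left (Dvd.intro_left _ rfl) h3
  have h3 : Nat.Coprime (hs q (k + 1)) (hs q (k + 1 + 1) + hs q (k + 1)) := by
    rw [h1]; exact h2.pow_right _
  rwa [Nat.coprime_add_self_right] at h3

/-- `∏_{j=2}^{k+1} (q^j - (-1)^j)` -/
def up (q k : ℕ) : ℕ := ∏ i ∈ Finset.range k, un q (i + 2)

theorem up_succ (q k : ℕ) : up q (k + 1) = up q k * un q (k + 2) := Finset.prod_range_succ _ _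

theorem up_pos {q : ℕ} (hq : 2 ≤ q) (k : ℕ) : 0 < up q k :=
  Finset.prod_pos fun i _ => un_pos hq (by omega)

theorem up_cop {q : ℕ} (hq : 1 ≤ q) (k : ℕ) : Nat.Coprime q (up q k) :=
  Nat.Coprime.prod_right fun i _ => un_cop hq (by omega)

theorem up_dvd {q : ℕ} (hq : 1 ≤ q) (k : ℕ) : hs q (k + 2) * hs q (k + 3) * (q + 1) ∣ up q (k + 2) := by
  rw [up_succ, up_succ, ← hs_mul hq, ← hs_mul hq]
  exact ⟨up q k * (q + 1), by ring⟩

/-- `(q^2 - 1) q^{3 + ... + n} ≤ ∏_{j=2}^n (q^j - (-1)^j)` -/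
theorem up_bound {q : ℕ} (hq : 2 ≤ q) : ∀ k : ℕ, (q ^ 2 - 1) * q ^ lnE (k + 1) ≤ q ^ 2 * up q (k + 1)
  | 0 => by simp only [lnE, zero_add, Finset.range_one, Finset.sum_singleton, mul_comm, up, un, Finset.prod_singleton, even_two, ↓reduceIte, Std.le_refl]
  | 1 => by
    have e1 : up q (1 + 1) = (q ^ 2 - 1) * (q ^ 3 + 1) := by
      rw [up_succ, up_succ]
      simp only [up, Finset.range_zero, un, Finset.prod_empty, zero_add, even_two, ↓reduceIte, one_mul, Nat.reduceAdd, show ¬Even 3 by decide]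
    have e2 : lnE (1 + 1) = 2 + 3 := rfl
    rw [e1, e2, pow_add]
    calc (q ^ 2 - 1) * (q ^ 2 * q ^ 3) = q ^ 2 * ((q ^ 2 - 1) * q ^ 3) := by ring
      _ ≤ q ^ 2 * ((q ^ 2 - 1) * (q ^ 3 + 1)) := by gcongr; omega
  | (k + 2) => by
    rcases Nat.even_or_odd k with hk | hk
    · -- the last factor is `q^{k+4} - 1`, before it `q^{k+3} + 1`
      have ih := up_bound hq k
      have e1 : up q (k + 2 + 1) = up q (k + 1) * ((q ^ (k + 3) + 1) * (q ^ (k + 4) - 1)) := by
        rw [up_succ, up_succ, un_odd (j := k + 1 + 2) (by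
          rw [show k + 1 + 2 = k + 2 + 1 by ring, Nat.even_add_one, not_not]
          exact hk.add (by decide)), un_even (j := k + 2 + 2) (by
          rw [show k + 2 + 2 = k + 4 by ring]; exact hk.add (by decide))]
        ring_nf
      have e2 : lnE (k + 2 + 1) = lnE (k + 1) + ((k + 3) + (k + 4)) := by
        rw [lnE_succ, lnE_succ]; ring
      have h1 : q ^ ((k + 3) + (k + 4)) ≤ (q ^ (k + 3) + 1) * (q ^ (k + 4) - 1) := by
        have h2 : 1 ≤ q ^ (k + 3) := Nat.one_le_pow _ _ (by omega)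
        have h3 : q ^ (k + 4) = q * q ^ (k + 3) := pow_succ' _ _
        have h4 : 1 ≤ q * q ^ (k + 3) := Nat.mul_pos (by omega) (by omega)
        rw [pow_add, h3]
        generalize q ^ (k + 3) = x at *
        zify [h4]
        have h5 : (2 : ℤ) ≤ q := by exact_mod_cast hq
        have h6 : (1 : ℤ) ≤ x := by exact_mod_cast h2
        nlinarith only [hq, h2]
      rw [e1, e2, pow_add]
      calc (q ^ 2 - 1) * (q ^ lnE (k + 1) * q ^ ((k + 3) + (k + 4)))
          = ((q ^ 2 - 1) * q ^ lnE (k + 1)) * q ^ ((k + 3) + (k + 4)) := by ring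
        _ ≤ (q ^ 2 * up q (k + 1)) * ((q ^ (k + 3) + 1) * (q ^ (k + 4) - 1)) := Nat.mul_le_mul ih h1
        _ = _ := by ring
    · have ih := up_bound hq (k + 1)
      have e1 : up q (k + 2 + 1) = up q (k + 1 + 1) * (q ^ (k + 4) + 1) := by
        rw [up_succ, un_odd (j := k + 2 + 2) (by
          rw [show k + 2 + 2 = k + 4 by ring, Nat.not_even_iff_odd]; exact hk.add_even (by decide))]
      have e2 : lnE (k + 2 + 1) = lnE (k + 1 + 1) + (k + 4) := by rw [lnE_succ]
      rw [e1, e2, pow_add]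
      calc (q ^ 2 - 1) * (q ^ lnE (k + 1 + 1) * q ^ (k + 4))
          = ((q ^ 2 - 1) * q ^ lnE (k + 1 + 1)) * q ^ (k + 4) := by ring
        _ ≤ (q ^ 2 * up q (k + 1 + 1)) * (q ^ (k + 4) + 1) := Nat.mul_le_mul ih (by omega)
        _ = _ := by ring

end Cfsg.Agent.H548.LieArith
end

-- part: H548/RowPSp
section
/-!
# `Crit` for the symplectic groups (helper548, for S4239)
-/

set_option autoImplicit false

namespace Cfsg.Agent.H548.RowPSp

open Cfsg Cfsg.Agent.H548.Crit Cfsg.Agent.H548.LieNum Cfsg.Agent.H548.LieArith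

universe u

theorem field_data (F : Type) [Field F] [Fintype F] : ∃ p f : ℕ, p.Prime ∧ 1 ≤ f ∧ Fintype.card F = p ^ f ∧ CharP F p := by
  obtain ⟨p, hp⟩ := CharP.exists F
  obtain ⟨n, h1, h2⟩ := FiniteField.card F p
  exact ⟨p, n, h1, n.2, h2, hp⟩

theorem simple_congr {G : Type u} {T : Type*} [Group G] [Group T] (e : G ≃* T) (hs : IsSimpleGroup G) :
    IsSimpleGroup T := by
  have := hs
  have : Nontrivial T := e.symm.toEquiv.nontrivial
  exact IsSimpleGroup.isSimpleGroup_of_surjective e.toMonoidHom e.surjective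

theorem comm_congr {G : Type u} {T : Type*} [Group G] [Group T] (e : G ≃* T) (hna : ¬ IsMulCommutative G) :
    ¬ IsMulCommutative T := by
  intro h
  apply hna
  refine ⟨⟨fun a b => e.injective ?_⟩⟩
  rw [map_mul, map_mul]
  exact h.is_comm.comm _ _

theorem crit_psp_core {F : Type} [Field F] [Fintype F] {m : ℕ} (hm : 2 ≤ m) (h2 : m = 2 → 3 ≤ Fintype.card F)
    [Finite (PSp m F)] (hs : IsSimpleGroup (PSp m F)) (hna : ¬ IsMulCommutative (PSp m F)) : Crit (PSp m F) := by
  obtain ⟨p, f, hp, hf, hF, hch⟩ := field_data F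
  have : Fact p.Prime := ⟨hp⟩
  have hL : IsLieTypeChar p (PSp m F) := Or.inr (Or.inl ⟨F, _, _, hch, m, hm, h2, ⟨MulEquiv.refl _⟩⟩)
  have h22 : m = 2 → 3 ≤ p ^ f := fun h => hF ▸ h2 h
  have hA := Cfsg.Agent.S0814.result p f hf hF m hm h22
  have ho := card_out_of_mulAut hs hna hA
  have hq2 : 2 ≤ p ^ f := by
    calc 2 ≤ p := hp.two_le
      _ = p ^ 1 := (pow_one p).symm
      _ ≤ p ^ f := Nat.pow_le_pow_right hp.pos hf
  have hS : Nat.gcd 2 (p ^ f - 1) * Nat.card (PSp m F) = (p ^ f) ^ (m ^ 2) * sp (p ^ f) m := by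
    have h := ClassicalGeometry.AutPSpCount.card_sp (F := F) (m := m) (by omega)
    rw [Cfsg.Agent.S0245.result hF m, hF] at h
    exact h.symm
  have hf2 : 2 * f ≤ p ^ f := two_mul_f_le hp.two_le hf rfl
  obtain ⟨q, hq⟩ : ∃ q, q = p ^ f := ⟨_, rfl⟩
  rw [← hq] at hS hq2 hf2 ho h22
  have hD : Nat.gcd 2 (q - 1) = 1 ∧ Even q ∨ Nat.gcd 2 (q - 1) = 2 ∧ Odd q := by
    rcases Nat.even_or_odd q with h | h
    · left
      refine ⟨?_, h⟩
      have h1 : Odd (q - 1) := by
        obtain ⟨k, hk⟩ := h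
        exact ⟨k - 1, by (clear * - hq2 hk; omega)⟩
      exact Nat.Coprime.symm (Odd.coprime_two_right h1)
    · right
      refine ⟨?_, h⟩
      obtain ⟨k, hk⟩ := h
      exact Nat.gcd_eq_left ⟨k, by (clear * - hq2 hk; omega)⟩
  have hspos := sp_pos hq2 m
  have hDd : Nat.gcd 2 (q - 1) ∣ q ^ 2 - 1 := by
    refine (Nat.gcd_dvd_right 2 (q - 1)).trans ?_
    have := Nat.sub_dvd_pow_sub_pow q 1 2
    rwa [one_pow] at this
  rcases Nat.lt_or_ge 2 m with hm3 | hm2
  · -- `m ≥ 3`
    obtain ⟨k, rfl⟩ : ∃ k, m = k + 3 := ⟨m - 3, by omega⟩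
    rw [if_neg (by omega), one_mul] at ho
    obtain ⟨D, hDeq⟩ : ∃ D, D = Nat.gcd 2 (q - 1) := ⟨_, rfl⟩
    rw [← hDeq] at hS ho hD hDd
    have hDq : D ≤ 2 ∧ D ≤ q - 1 ∧ 1 ≤ D := by
      rcases hD with ⟨h, h'⟩ | ⟨h, h'⟩
      · rw [h]; omega
      · rw [h]
        obtain ⟨l, hl⟩ := h'
        (clear * - hq2 hl; omega)
    have hb1 : q ^ 2 + 1 ≤ gs (q ^ 2) (k + 2) := by
      have : gs (q ^ 2) 2 = q ^ 2 + 1 := by simp only [gs, Finset.sum_range_succ, Finset.range_one, Finset.sum_singleton, pow_zero, pow_one]; ring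
      rw [← this]
      exact gs_mono (by omega)
    have hb2 : gs (q ^ 2) (k + 2) ≤ gs (q ^ 2) (k + 3) := gs_mono (by omega)
    have hDf : 2 * (D * f) ≤ q ^ 2 + 1 := by nlinarith only [hf, hf2, hDq]
    refine crit_num (N := (k + 3) ^ 2) (D := D) (M' := sp q (k + 3)) (o := D * f) (a := gs (q ^ 2) (k + 2))
      (b := gs (q ^ 2) (k + 3)) hs hL hq hf hS (sp_cop (by omega) _) ho.le (gs_coprime _ _) ?_
      (hDf.trans hb1) (hDf.trans (hb1.trans hb2)) ?_ hspos
    · exact (mul_dvd_mul_left _ hDd).trans (sp_dvd (by omega) (k + 1))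
    · have h1 := sp_bound hq2 (k + 3)
      have h3 : q ^ ((k + 3) * (k + 3 + 1)) = q ^ ((k + 3) ^ 2) * q ^ (k + 3) := by
        rw [← pow_add]; congr 1; ring
      rw [h3] at h1
      have h4 : 3 * (D * f) * D ≤ q ^ (k + 3) := by
        have h5 : q ^ 3 ≤ q ^ (k + 3) := Nat.pow_le_pow_right (by omega) (by omega)
        refine le_trans ?_ h5
        have h7 : 3 * D * D ≤ 2 * q ^ 2 := by
          have : D ≤ q - 1 := hDq.2.1
          have : D + 1 ≤ q := by omega
          nlinarith only [hf, ho, hDq, this, hf2]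
        have h8 : (3 * D * D) * (2 * f) ≤ 2 * q ^ 2 * q := Nat.mul_le_mul h7 hf2
        nlinarith only [h8]
      have h6 : 3 * (2 * (D * f) * q ^ ((k + 3) ^ 2) * D) ≤ 3 * sp q (k + 3) := by
        refine le_trans ?_ h1
        calc 3 * (2 * (D * f) * q ^ ((k + 3) ^ 2) * D) = 2 * (q ^ ((k + 3) ^ 2) * (3 * (D * f) * D)) := by ring
          _ ≤ _ := by gcongr
      omega
  · obtain rfl : m = 2 := by omega
    have hq3 : 3 ≤ q := h22 rfl
    have e1 : sp q 2 = (q ^ 2 - 1) * (q ^ 4 - 1) := by simp only [sp, Finset.prod_range_succ, Finset.range_one, Finset.prod_singleton, zero_add, mul_one, Nat.reduceAdd, Nat.reduceMul]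
    have e2 : q ^ 4 - 1 = (q ^ 2 - 1) * (q ^ 2 + 1) := by
      have : 1 ≤ q ^ 2 := Nat.one_le_pow _ _ (by omega)
      have h4 : 1 ≤ q ^ 4 := Nat.one_le_pow _ _ (by omega)
      zify [this, h4]
      ring
    have hq9 : 9 ≤ q ^ 2 := by nlinarith only [hF, hq, hq3]
    have hs2 : ∃ s, q ^ 2 = s + 1 := ⟨q ^ 2 - 1, by omega⟩
    obtain ⟨s, hs1⟩ := hs2
    have e3 : q ^ 2 - 1 = s := by omega
    have e4 : q ^ 4 = (s + 1) ^ 2 := by rw [← hs1]; ring
    rcases hD with ⟨hD, hev⟩ | ⟨hD, hod⟩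
    · -- `q` even
      have hp2 : p = 2 := by
        rcases hp.eq_two_or_odd' with h | h
        · exact h
        · exfalso
          have := h.pow (n := f)
          rw [← hq] at this
          exact (Nat.not_odd_iff_even.2 hev) this
      rw [if_pos ⟨rfl, hp2⟩, hD, mul_one] at ho
      rw [hD] at hS
      have hq4 : 4 ≤ q := by
        obtain ⟨l, hl⟩ := hev
        omega
      refine crit_num (N := 2 ^ 2) (D := 1) (M' := sp q 2) (o := 2 * f) (a := q ^ 2 - 1)
        (b := q ^ 2 + 1) hs hL hq hf hS (sp_cop (by omega) _) ho.le ?_ ?_ ?_ ?_ ?_ hspos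
      · have h1 : q ^ 2 + 1 = (q ^ 2 - 1) + 2 := by omega
        rw [h1, Nat.coprime_self_add_right]
        have h2 : Odd (q ^ 2 - 1) := by
          have : Even (q ^ 2) := hev.pow_of_ne_zero (by norm_num)
          obtain ⟨l, hl⟩ := this
          exact ⟨l - 1, by omega⟩
        exact Odd.coprime_two_right h2
      · rw [mul_one, e1, e2]
        exact ⟨q ^ 2 - 1, by ring⟩
      · have : 4 * q ≤ q ^ 2 := by nlinarith only [hF, hq, hq4]
        omega
      · have : 4 * q ≤ q ^ 2 := by nlinarith only [hF, hq, hq4]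
        omega
      · rw [e1, e3, e4, show (2 : ℕ) ^ 2 = 4 by norm_num, e4]
        have h1 : 2 * (2 * f) ≤ 2 * q := by omega
        have h2 : 8 * (2 * q) ≤ 4 * (s + 1) := by rw [← hs1]; nlinarith only [hF, hq, hq4]
        have h3 : 15 ≤ s := by nlinarith only [hq4, h2]
        have h4 : (s + 1) ^ 2 - 1 = s * s + 2 * s := by
          have : (s + 1) ^ 2 = s * s + 2 * s + 1 := by ring
          omega
        rw [h4]
        have h5 : 2 * (2 * f) * (s + 1) ^ 2 * 1 ≤ (2 * q) * (s + 1) ^ 2 := by nlinarith only [hf2, sq_nonneg (s + 1)]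
        refine h5.trans ?_
        have h6 : 2 * (2 * q) ≤ s + 1 := by (clear * - e3 h2; omega)
        have h7 : 2 * ((2 * q) * (s + 1) ^ 2) ≤ 2 * (s * (s * s + 2 * s)) := by
          calc 2 * ((2 * q) * (s + 1) ^ 2) = (2 * (2 * q)) * (s + 1) ^ 2 := by ring
            _ ≤ (s + 1) * (s + 1) ^ 2 := by gcongr
            _ ≤ 2 * (s * (s * s + 2 * s)) := by nlinarith only [hq4, h2, h3, Nat.mul_le_mul h3 (le_refl (s * s)), Nat.mul_le_mul h3 (le_refl s)]
        omega
    · -- `q` odd
      have hp2 : p ≠ 2 := by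
        rintro rfl
        have : Even ((2 : ℕ) ^ f) := (by decide : Even 2).pow_of_ne_zero (by omega)
        rw [← hq] at this
        exact (Nat.not_even_iff_odd.2 hod) this
      rw [if_neg (by rintro ⟨-, h⟩; exact hp2 h), hD, one_mul] at ho
      rw [hD] at hS
      have hp3 : 3 ≤ p := by have := hp.two_le; omega
      have hf3 : 3 * f ≤ q := three_mul_f_le hp3 hf hq
      obtain ⟨l, hl⟩ := hod
      have hq8 : ∃ t, q ^ 2 = 8 * t + 1 := by
        obtain ⟨t, ht⟩ : 2 ∣ l * (l + 1) := (Nat.even_mul_succ_self l).two_dvd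
        exact ⟨t, by rw [hl]; nlinarith only [ht]⟩
      obtain ⟨t, ht⟩ := hq8
      have hb : (q ^ 2 + 1) / 2 = 4 * t + 1 := by omega
      have hs8 : s = 8 * t := by omega
      rcases Nat.lt_or_ge q 5 with hq5 | hq5
      · -- `q = 3`
        have hq3' : q = 3 := by omega
        have hf1 : f = 1 := by omega
        have hp3' : p = 3 := by rw [hf1, pow_one] at hq; omega
        have hcard : Nat.card (PSp 2 F) = 25920 := by
          rw [e1, hq3'] at hS
          norm_num at hS
          omega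
        rw [hf1] at ho
        obtain ⟨x, hx⟩ := exists_reg (N := 4) (M := 320) hs hL (by rw [hcard, hp3']; norm_num) (by rw [hp3']; norm_num)
        rw [hp3'] at hx
        refine crit_expl x hcard (by norm_num) ho hx [(2, 6, 1), (3, 4, 0), (5, 1, 0)] (by norm_num) ?_ (by norm_num)
        intro t ht
        simp only [List.mem_cons, List.not_mem_nil, or_false] at ht
        rcases ht with rfl | rfl | rfl <;> norm_num
      · refine crit_num (N := 2 ^ 2) (D := 2) (M' := sp q 2) (o := 2 * f) (a := q ^ 2 - 1)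
          (b := 4 * t + 1) hs hL hq hf hS (sp_cop (by omega) _) ho.le ?_ ?_ ?_ ?_ ?_ hspos
        · rw [e3, hs8]
          have h1 : Nat.Coprime (4 * t) (4 * t + 1) := by simp
          have h2 : Nat.Coprime 2 (4 * t + 1) := by
            rw [Nat.coprime_two_left]
            exact ⟨2 * t, by ring⟩
          have h3 := Nat.Coprime.mul_left h2 h1
          rwa [show 2 * (4 * t) = 8 * t by ring] at h3
        · rw [e1, e2, e3]
          exact ⟨s, by rw [ht]; ring⟩
        · have : 5 * q ≤ q ^ 2 := by nlinarith only [hF, hq, hq5]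
          (clear * - hq9 hs1 e3 hf3 hl ht this; omega)
        · have : 5 * q ≤ q ^ 2 := by nlinarith only [hF, hq, hq5]
          (clear * - hf2 hq9 hs1 e3 hl ht this; omega)
        · rw [e1, e3, show (2 : ℕ) ^ 2 = 4 by norm_num, e4]
          have h4 : (s + 1) ^ 2 - 1 = s * s + 2 * s := by
            have : (s + 1) ^ 2 = s * s + 2 * s + 1 := by ring
            (clear * - hq9 hs1 e3 e4 ht this; omega)
          rw [h4]
          have h1 : 5 * q ≤ s + 1 := by rw [← hs1]; nlinarith only [hF, hq, hq5]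
          have h3 : 24 ≤ s := by nlinarith only [hq5, h1]
          have h5 : 15 * (2 * (2 * f) * 2) ≤ 8 * (s + 1) := by (clear * - hs1 e3 hf3 hl ht h1; omega)
          have h6 : 15 * (2 * (2 * f) * (s + 1) ^ 2 * 2) ≤ 15 * (s * (s * s + 2 * s)) := by
            calc 15 * (2 * (2 * f) * (s + 1) ^ 2 * 2) = (15 * (2 * (2 * f) * 2)) * (s + 1) ^ 2 := by ring
              _ ≤ (8 * (s + 1)) * (s + 1) ^ 2 := by gcongr
              _ ≤ _ := by nlinarith only [hq5, h1, h3, Nat.mul_le_mul h3 (le_refl (s * s)), Nat.mul_le_mul h3 (le_refl s)]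
          omega

theorem crit_psp {G : Type u} [Group G] [Finite G] (hs : IsSimpleGroup G) (hna : ¬ IsMulCommutative G) (hG : IsPSp G) :
    Crit G := by
  obtain ⟨F, _, _, m, hm, h2, ⟨e⟩⟩ := hG
  have : Finite (PSp m F) := Finite.of_equiv _ e.toEquiv
  exact Crit.congr e.symm (crit_psp_core hm h2 (simple_congr e hs) (comm_congr e hna))

end Cfsg.Agent.H548.RowPSp
end

private theorem dce_d3bf7ac1df46 : _root_.True := by
  try have : _root_.True := by simp only [_root_.Cfsg.Agent.H548.LieArith.hs.eq_2]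
  try have : _root_.True := by simp only [_root_.Cfsg.Agent.H548.LieArith.hs.eq_1]
  try have : _root_.True := by simp only [_root_.Cfsg.Agent.H548.LieArith.lnE.eq_1]
  try have : _root_.True := by simp only [_root_.Cfsg.Agent.H548.LieArith.ln.eq_1]
  try have : _root_.True := by simp only [_root_.Cfsg.Agent.H548.LieArith.hs.eq_def]
  try have : _root_.True := by simp only [_root_.Cfsg.Agent.H548.LieArith.sp.eq_1]
  try have : _root_.True := by simp only [_root_.Cfsg.Agent.H548.LieArith.up.eq_1]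
  try have : _root_.True := by simp only [_root_.Cfsg.Agent.H548.LieArith.un.eq_1]
  exact _root_.True.intro
end

-- part: H548/RowPSL
section
prune_inst 0x30044800100000000010000000004000000000000000000007020008004080400800000001000000808008000008110000000200000000000000000000000042440002000008200000000000000000000000000000000000000000000000000000000
set_option linter.all false
open scoped Cfsg.Agent.FastGrp

/-!
# `Crit` for `PSL_n(q)`, `n ≥ 3` (helper548, for S4239)
-/

set_option autoImplicit false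

namespace Cfsg.Agent.H548.RowPSL

open Cfsg Cfsg.Agent.H548.Crit Cfsg.Agent.H548.LieNum Cfsg.Agent.H548.LieArith Cfsg.Agent.H548.RowPSp

universe u

theorem prod_eq {q : ℕ} (hq : 1 ≤ q) (k : ℕ) : ∏ i : Fin (k + 1), (q ^ (k + 1) - q ^ (i : ℕ)) =
    (q - 1) * (q ^ (∑ i ∈ Finset.range (k + 1), i) * ln q k) := by
  rw [Fin.prod_univ_eq_prod_range (fun i => q ^ (k + 1) - q ^ i) (k + 1)]
  have h1 : ∏ i ∈ Finset.range (k + 1), (q ^ (k + 1) - q ^ i) =
      ∏ i ∈ Finset.range (k + 1), (q ^ i * (q ^ ((k + 1 - 1 - i) + 1) - 1)) := by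
    refine Finset.prod_congr rfl fun i hi => ?_
    have hi' := Finset.mem_range.1 hi
    rw [Nat.mul_sub, mul_one, ← pow_add]
    congr 2
    omega
  rw [h1, Finset.prod_mul_distrib, Finset.prod_pow_eq_pow_sum,
    Finset.prod_range_reflect (fun i => q ^ (i + 1) - 1) (k + 1), Finset.prod_range_succ']
  rw [zero_add, pow_one]
  unfold ln
  ring

theorem sum_eq (k : ℕ) : lnE k + 1 = (∑ i ∈ Finset.range (k + 1), i) + (k + 1) := by
  induction k with
  | zero => simp [lnE]
  | succ k ih =>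
    rw [lnE_succ, Finset.sum_range_succ]
    omega

theorem pow_lnE {q : ℕ} (hq : 1 ≤ q) (k : ℕ) : q ^ lnE k = q ^ (∑ i ∈ Finset.range (k + 1), i) * q ^ k := by
  have h1 := sum_eq k
  rw [← pow_add]
  congr 1
  omega

/-- `n = k + 1 ≥ 4`: the criterion in terms of two inequalities. -/
theorem psl_aux {G : Type u} [Group G] [Finite G] (hs : IsSimpleGroup G) {p f q k D : ℕ} (hL : IsLieTypeChar p G)
    (hq : q = p ^ f) (hf : 1 ≤ f) (hq2 : 2 ≤ q) (hD : D ∣ q - 1)
    (hS : D * Nat.card G = q ^ (∑ i ∈ Finset.range (k + 2 + 1), i) * ln q (k + 2))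
    (ho : Nat.card (Out G) = D * (2 * f)) (h1 : 2 * (D * (2 * f)) ≤ gs q (k + 2))
    (h2 : 2 * (D * (2 * f)) * q ^ (∑ i ∈ Finset.range (k + 2 + 1), i) * D ≤ ln q (k + 2)) : Crit G := by
  refine crit_num (N := ∑ i ∈ Finset.range (k + 2 + 1), i) (D := D) (M' := ln q (k + 2)) (o := D * (2 * f))
    (a := gs q (k + 2)) (b := gs q (k + 3)) hs hL hq hf hS (ln_cop (by omega) _) ho.le (gs_coprime _ _) ?_ h1
    (h1.trans (gs_mono (by omega))) h2 (ln_pos hq2 _)
  exact (mul_dvd_mul_left _ hD).trans (ln_dvd (by omega) k)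

theorem h2_of {q k D f : ℕ} (hq2 : 2 ≤ q) (h : 8 * f * D ^ 2 ≤ q ^ (k + 2)) :
    2 * (D * (2 * f)) * q ^ (∑ i ∈ Finset.range (k + 2 + 1), i) * D ≤ ln q (k + 2) := by
  have h1 := ln_bound hq2 (k + 1)
  rw [show k + 1 + 1 = k + 2 by ring, pow_lnE (by omega)] at h1
  have h2 : 2 * (2 * (D * (2 * f)) * q ^ (∑ i ∈ Finset.range (k + 2 + 1), i) * D) ≤ 2 * ln q (k + 2) := by
    refine le_trans ?_ h1
    calc 2 * (2 * (D * (2 * f)) * q ^ (∑ i ∈ Finset.range (k + 2 + 1), i) * D)
        = q ^ (∑ i ∈ Finset.range (k + 2 + 1), i) * (8 * f * D ^ 2) := by ring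
      _ ≤ _ := by gcongr
  omega

theorem gs_three' (q : ℕ) : gs q 3 = q ^ 2 + q + 1 := by
  simp only [gs, Finset.sum_range_succ, _root_.Finset.range_one, _root_.Finset.sum_singleton, _root_.pow_zero, _root_.pow_one]; ring

theorem gs_four' (q : ℕ) : gs q 4 = q ^ 3 + q ^ 2 + q + 1 := by
  simp only [gs, Finset.sum_range_succ, _root_.Finset.range_one, _root_.Finset.sum_singleton, _root_.pow_zero, _root_.pow_one]; ring

theorem ln_two (q : ℕ) : ln q 2 = (q ^ 2 - 1) * (q ^ 3 - 1) := by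
  simp only [ln, Finset.prod_range_succ, _root_.Finset.range_one, _root_.Finset.prod_singleton, _root_.zero_add, _root_.Nat.reduceAdd]

theorem ln_three (q : ℕ) : ln q 3 = (q ^ 2 - 1) * (q ^ 3 - 1) * (q ^ 4 - 1) := by
  simp only [ln, Finset.prod_range_succ, _root_.Finset.range_one, _root_.Finset.prod_singleton, _root_.zero_add, _root_.Nat.reduceAdd]

theorem ln_three_bound {q : ℕ} (hq : 3 ≤ q) : 4 * q ^ 9 ≤ 5 * ln q 3 := by
  rw [ln_three]
  have h2 : 9 ≤ q ^ 2 := by nlinarith
  have h3 : 27 ≤ q ^ 3 := by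
    calc 27 = 3 ^ 3 := by norm_num
      _ ≤ q ^ 3 := Nat.pow_le_pow_left hq 3
  have h4 : 81 ≤ q ^ 4 := by
    calc 81 = 3 ^ 4 := by norm_num
      _ ≤ q ^ 4 := Nat.pow_le_pow_left hq 4
  have a2 : 8 * q ^ 2 ≤ 9 * (q ^ 2 - 1) := by omega
  have a3 : 26 * q ^ 3 ≤ 27 * (q ^ 3 - 1) := by omega
  have a4 : 80 * q ^ 4 ≤ 81 * (q ^ 4 - 1) := by omega
  have h5 := Nat.mul_le_mul (Nat.mul_le_mul a2 a3) a4
  have e1 : 8 * q ^ 2 * (26 * q ^ 3) * (80 * q ^ 4) = 16640 * q ^ 9 := by ring
  have e2 : 9 * (q ^ 2 - 1) * (27 * (q ^ 3 - 1)) * (81 * (q ^ 4 - 1)) =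
    19683 * ((q ^ 2 - 1) * (q ^ 3 - 1) * (q ^ 4 - 1)) := by ring
  rw [e1, e2] at h5
  generalize (q ^ 2 - 1) * (q ^ 3 - 1) * (q ^ 4 - 1) = X at *
  generalize q ^ 9 = Y at *
  omega

theorem psl_four_le {G : Type u} [Group G] [Finite G] (hs : IsSimpleGroup G) {p f q k D : ℕ} (hp : p.Prime)
    (hL : IsLieTypeChar p G) (hq : q = p ^ f) (hf : 1 ≤ f) (hk : 1 ≤ k) (hD : D = Nat.gcd (k + 3) (q - 1))
    (hS : D * Nat.card G = q ^ (∑ i ∈ Finset.range (k + 2 + 1), i) * ln q (k + 2))
    (ho : Nat.card (Out G) = D * (2 * f)) : Crit G := by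
  have hq2 : 2 ≤ q := by
    rw [hq]
    calc 2 ≤ p := hp.two_le
      _ = p ^ 1 := (pow_one p).symm
      _ ≤ p ^ f := Nat.pow_le_pow_right hp.pos hf
  have hf2 : 2 * f ≤ q := two_mul_f_le hp.two_le hf hq
  have hDn : D ∣ k + 3 := hD ▸ Nat.gcd_dvd_left _ _
  have hDq : D ∣ q - 1 := hD ▸ Nat.gcd_dvd_right _ _
  have hDle : D ≤ q - 1 := Nat.le_of_dvd (by omega) hDq
  have hD1 : 1 ≤ D := Nat.pos_of_dvd_of_pos hDn (by omega)
  have hDk : D ≤ k + 3 := Nat.le_of_dvd (by omega) hDn
  obtain ⟨r, rfl⟩ : ∃ r, q = r + 1 := ⟨q - 1, by omega⟩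
  rw [Nat.add_sub_cancel] at hDle hDq
  rcases Nat.lt_or_ge 2 k with hk3 | hk2
  · -- `n ≥ 6`
    refine psl_aux hs hL hq hf hq2 hDq hS ho ?_ (h2_of hq2 ?_)
    · refine le_trans ?_ (gs_mono (show 4 ≤ k + 2 by omega))
      rw [gs_four']
      have h1 : 2 * (D * (2 * f)) ≤ 2 * (r * (r + 1)) := by gcongr
      nlinarith only [h1]
    · have h1 : 8 * f * D ^ 2 ≤ 4 * (r + 1) * r ^ 2 := by
        calc 8 * f * D ^ 2 = 4 * (2 * f) * D ^ 2 := by ring
          _ ≤ 4 * (r + 1) * r ^ 2 := by gcongr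
      have h2 : 2 * r ≤ (r + 1) ^ 2 := by linarith only [_root_.sq_nonneg (↑r : ℤ)]
      have h3 : 4 * (r + 1) * r ^ 2 ≤ (r + 1) ^ 5 := by
        calc 4 * (r + 1) * r ^ 2 = (r + 1) * (2 * r) ^ 2 := by ring
          _ ≤ (r + 1) * ((r + 1) ^ 2) ^ 2 := by gcongr
          _ = (r + 1) ^ 5 := by ring
      exact (h1.trans h3).trans (Nat.pow_le_pow_right (by omega) (by omega))
  · rcases Nat.lt_or_ge 1 k with hk2' | hk1
    · -- `n = 5`
      obtain rfl : k = 2 := by omega
      refine psl_aux hs hL hq hf hq2 hDq hS ho ?_ (h2_of hq2 ?_)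
      · change _ ≤ gs (r + 1) 4
        rw [gs_four']
        have h1 : 2 * (D * (2 * f)) ≤ 2 * (r * (r + 1)) := by gcongr
        nlinarith only [h1]
      · change _ ≤ (r + 1) ^ 4
        have h5 : Nat.Prime 5 := by norm_num
        rcases (Nat.dvd_prime h5).1 hDn with rfl | rfl
        · have h1 : 8 * f * 1 ^ 2 ≤ 4 * (r + 1) := by omega
          have h2 : 4 * (r + 1) ≤ (r + 1) ^ 4 := by
            have : 2 ^ 3 ≤ (r + 1) ^ 3 := Nat.pow_le_pow_left hq2 3
            calc 4 * (r + 1) ≤ (r + 1) ^ 3 * (r + 1) := by gcongr; omega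
              _ = (r + 1) ^ 4 := by ring
          exact h1.trans h2
        · have h1 : 8 * f * 5 ^ 2 ≤ 100 * (r + 1) := by omega
          have h2 : 100 * (r + 1) ≤ (r + 1) ^ 4 := by
            have : 6 ^ 3 ≤ (r + 1) ^ 3 := Nat.pow_le_pow_left (by omega) 3
            calc 100 * (r + 1) ≤ (r + 1) ^ 3 * (r + 1) := by gcongr; omega
              _ = (r + 1) ^ 4 := by ring
          exact h1.trans h2
    · -- `n = 4`
      obtain rfl : k = 1 := by omega
      rcases Nat.even_or_odd (r + 1) with hev | hod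
      · have hDodd : D = 1 := by
          have h1 : Odd r := by
            obtain ⟨l, hl⟩ := hev
            exact ⟨l - 1, by omega⟩
          have h2 : Odd D := h1.of_dvd_nat hDq
          have h3 : Nat.Coprime (2 ^ 2) D := Nat.Coprime.pow_left 2 (Nat.coprime_two_left.2 h2)
          have h4 : D ∣ 2 ^ 2 := hDn
          exact h3.symm.eq_one_of_dvd h4
        refine psl_aux hs hL hq hf hq2 hDq hS ho ?_ (h2_of hq2 ?_)
        · change _ ≤ gs (r + 1) 3
          rw [gs_three', hDodd]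
          nlinarith only [hf2]
        · change _ ≤ (r + 1) ^ 3
          rw [hDodd]
          have h2 : 4 * (r + 1) ≤ (r + 1) ^ 3 := by
            have : 2 ^ 2 ≤ (r + 1) ^ 2 := Nat.pow_le_pow_left hq2 2
            calc 4 * (r + 1) ≤ (r + 1) ^ 2 * (r + 1) := by gcongr; omega
              _ = (r + 1) ^ 3 := by ring
          omega
      · have hp3 : 3 ≤ p := by
          have := hp.two_le
          rcases hp.eq_two_or_odd' with h | h
          · exfalso
            rw [hq, h] at hod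
            exact (Nat.not_odd_iff_even.2 ((by decide : Even 2).pow_of_ne_zero (by omega : f ≠ 0))) hod
          · obtain ⟨l, hl⟩ := h
            omega
        have hf3 : 3 * f ≤ r + 1 := three_mul_f_le hp3 hf hq
        have hq3 : 3 ≤ r + 1 := by omega
        have h49 := ln_three_bound hq3
        have hkey : 5 * f * D ^ 2 ≤ (r + 1) ^ 3 ∧ 2 * (D * (2 * f)) ≤ (r + 1) ^ 2 + (r + 1) + 1 := by
          rcases Nat.lt_or_ge (r + 1) 6 with hr | hr
          · -- `q = 3, 5`
            have hf1 : f = 1 := by omega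
            have hr' : r = 2 ∨ r = 4 := by
              obtain ⟨l, hl⟩ := hod
              omega
            rcases hr' with rfl | rfl
            · rw [hf1]
              have hD2 : D ≤ 2 := hDle
              constructor
              · calc 5 * 1 * D ^ 2 ≤ 5 * 1 * 2 ^ 2 := by gcongr
                  _ ≤ _ := by norm_num
              · omega
            · rw [hf1]
              have hD2 : D ≤ 4 := hDle
              constructor
              · calc 5 * 1 * D ^ 2 ≤ 5 * 1 * 4 ^ 2 := by gcongr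
                  _ ≤ _ := by norm_num
              · omega
          · constructor
            · calc 5 * f * D ^ 2 ≤ 5 * f * 4 ^ 2 := by gcongr
                _ ≤ 36 * (r + 1) := by omega
                _ ≤ (r + 1) ^ 2 * (r + 1) := by gcongr; nlinarith only [hr]
                _ = _ := by ring
            · have h1 : 2 * (D * (2 * f)) ≤ 2 * (4 * (2 * f)) := by gcongr
              nlinarith only [hf3, hr, h1]
        refine psl_aux hs hL hq hf hq2 hDq hS ho ?_ ?_
        · change _ ≤ gs (r + 1) 3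
          rw [gs_three']
          exact hkey.2
        · change 2 * (D * (2 * f)) * (r + 1) ^ 6 * D ≤ ln (r + 1) 3
          have h1 : 5 * (2 * (D * (2 * f)) * (r + 1) ^ 6 * D) ≤ 4 * (r + 1) ^ 9 := by
            calc 5 * (2 * (D * (2 * f)) * (r + 1) ^ 6 * D) = 4 * (r + 1) ^ 6 * (5 * f * D ^ 2) := by ring
              _ ≤ 4 * (r + 1) ^ 6 * (r + 1) ^ 3 := by gcongr; exact hkey.1
              _ = _ := by ring
          omega

/-! ### `PSL_3(q)` -/

theorem psl_three {G : Type u} [Group G] [Finite G] (hs : IsSimpleGroup G) {p f q D : ℕ} (hp : p.Prime)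
    (hL : IsLieTypeChar p G) (hq : q = p ^ f) (hf : 1 ≤ f) (hD : D = Nat.gcd 3 (q - 1)) (hq3 : 3 ≤ q) (hq4 : q ≠ 4)
    (hS : D * Nat.card G = q ^ 3 * ((q ^ 2 - 1) * (q ^ 3 - 1)))
    (ho : Nat.card (Out G) = D * (2 * f)) : Crit G := by
  have hf2 : 2 * f ≤ q := two_mul_f_le hp.two_le hf hq
  have hDn : D ∣ 3 := hD ▸ Nat.gcd_dvd_left _ _
  have hDq : D ∣ q - 1 := hD ▸ Nat.gcd_dvd_right _ _
  have hlpos := ln_pos (q := q) (by omega) 2
  have hlcop := ln_cop (q := q) (by omega) 2
  rw [ln_two] at hlpos hlcop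
  have h2 : 9 ≤ q ^ 2 := by nlinarith only [hq3]
  have h3 : 27 ≤ q ^ 3 := by
    calc 27 = 3 ^ 3 := by norm_num
      _ ≤ q ^ 3 := Nat.pow_le_pow_left hq3 3
  have e3 : q ^ 3 - 1 = (q - 1) * (q ^ 2 + q + 1) := by
    have h1 : 1 ≤ q := by omega
    have h3' : 1 ≤ q ^ 3 := by omega
    zify [h1, h3']
    ring
  have hc1 : ∀ b, b ∣ q ^ 2 + q + 1 → ¬ 3 ∣ b → Nat.Coprime (q ^ 2 - 1) b := by
    intro b hb hb3
    have e2 : q ^ 2 - 1 = (q - 1) * (q + 1) := by
      have h1 : 1 ≤ q := by omega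
      have h2' : 1 ≤ q ^ 2 := by omega
      zify [h1, h2']
      ring
    rw [e2]
    apply Nat.Coprime.mul_left
    · -- `gcd (q - 1) b ∣ 3`
      have h1 : Nat.gcd (q - 1) b ∣ 3 := by
        have h4 : Nat.gcd (q - 1) b ∣ q ^ 2 + q + 1 := (Nat.gcd_dvd_right _ _).trans hb
        have h5 : Nat.gcd (q - 1) b ∣ (q - 1) * (q + 2) := (Nat.gcd_dvd_left _ _).mul_right _
        have h6 : q ^ 2 + q + 1 = (q - 1) * (q + 2) + 3 := by
          have h1 : 1 ≤ q := by omega
          zify [h1]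
          ring
        rw [h6] at h4
        exact (Nat.dvd_add_right h5).1 h4
      rcases (Nat.dvd_prime Nat.prime_three).1 h1 with h4 | h4
      · exact h4
      · exfalso
        apply hb3
        rw [← h4]
        exact Nat.gcd_dvd_right _ _
    · have h4 : Nat.Coprime (q + 1) (q ^ 2 + q + 1) := by
        have h6 : q ^ 2 + q + 1 = 1 + (q + 1) * q := by ring
        rw [h6, Nat.coprime_add_mul_left_right]
        exact Nat.coprime_one_right _
      exact Nat.Coprime.coprime_dvd_right hb h4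
  rcases (Nat.dvd_prime Nat.prime_three).1 hDn with hD1 | hD1
  · rw [hD1] at hS ho
    have hn3 : ¬ 3 ∣ q ^ 2 + q + 1 := by
      intro hd
      have h1 : ¬ 3 ∣ q - 1 := by
        intro h4
        have h5 : 3 ∣ Nat.gcd 3 (q - 1) := Nat.dvd_gcd dvd_rfl h4
        rw [← hD, hD1] at h5
        omega
      have h6 : q ^ 2 + q + 1 = (q - 1) * (q + 2) + 3 := by
        have h1 : 1 ≤ q := by omega
        zify [h1]
        ring
      rw [h6] at hd
      have h7 : 3 ∣ (q - 1) * (q + 2) := (Nat.dvd_add_left (dvd_refl 3)).1 hd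
      rcases (Nat.Prime.dvd_mul Nat.prime_three).1 h7 with h8 | h8
      · exact h1 h8
      · exact h1 (by (clear * - h8; omega))
    refine crit_num (N := 3) (D := 1) (M' := (q ^ 2 - 1) * (q ^ 3 - 1)) (o := 1 * (2 * f)) (a := q ^ 2 - 1)
      (b := q ^ 2 + q + 1) hs hL hq hf hS hlcop ho.le (hc1 _ dvd_rfl hn3) ?_ ?_ ?_ ?_ hlpos
    · rw [e3]
      exact ⟨q - 1, by ring⟩
    · have : 3 * q ≤ q ^ 2 := by nlinarith only [hq3]
      omega
    · have : 3 * q ≤ q ^ 2 := by nlinarith only [hq3]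
      omega
    · have h4 : 2 * (1 * (2 * f)) * q ^ 3 * 1 ≤ (2 * q) * q ^ 3 := by
        have : 2 * (1 * (2 * f)) ≤ 2 * q := by omega
        calc 2 * (1 * (2 * f)) * q ^ 3 * 1 = 2 * (1 * (2 * f)) * q ^ 3 := by ring
          _ ≤ (2 * q) * q ^ 3 := by gcongr
      refine h4.trans ?_
      have h5 : 8 * q ^ 2 ≤ 9 * (q ^ 2 - 1) := by omega
      have h6 : 26 * q ^ 3 ≤ 27 * (q ^ 3 - 1) := by omega
      have h7 := Nat.mul_le_mul h5 h6
      have e4 : 8 * q ^ 2 * (26 * q ^ 3) = 208 * (q * (q * q ^ 3)) := by ring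
      have e5 : 9 * (q ^ 2 - 1) * (27 * (q ^ 3 - 1)) = 243 * ((q ^ 2 - 1) * (q ^ 3 - 1)) := by ring
      rw [e4, e5] at h7
      have h8 : 3 * (q * q ^ 3) ≤ q * (q * q ^ 3) := Nat.mul_le_mul_right _ hq3
      have e6 : 2 * q * q ^ 3 = 2 * (q * q ^ 3) := by ring
      rw [e6]
      generalize (q ^ 2 - 1) * (q ^ 3 - 1) = X at *
      generalize q * (q * q ^ 3) = Z at *
      generalize q * q ^ 3 = Y at *
      omega
  · rw [hD1] at hS ho hDq
    obtain ⟨t, ht⟩ := hDq
    have hqt : q = 3 * t + 1 := by omega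
    have hkey : 36 * f + 2 ≤ q ^ 2 := by
      rcases Nat.lt_or_ge q 19 with h19 | h19
      · have h2f : 2 ^ f ≤ q := by rw [hq]; exact Nat.pow_le_pow_left hp.two_le f
        have hf5 : f < 5 := by
          by_contra hcon
          have : 2 ^ 5 ≤ 2 ^ f := Nat.pow_le_pow_right (by norm_num) (by omega)
          omega
        have ht' : t = 2 ∨ t = 3 ∨ t = 4 ∨ t = 5 := by (clear * - hq3 hq4 hqt h19; omega)
        rcases ht' with rfl | rfl | rfl | rfl
        · -- `q = 7`
          have hq7 : q = 7 := hqt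
          have hf1 : f = 1 := by
            by_contra hne
            have hp2 : p = 2 := by
              by_contra hp2
              have hp3 : 3 ≤ p := by have := hp.two_le; omega
              have : 3 ^ 2 ≤ q := by
                rw [hq]
                calc 3 ^ 2 ≤ p ^ 2 := Nat.pow_le_pow_left hp3 2
                  _ ≤ p ^ f := Nat.pow_le_pow_right hp.pos (by omega)
              omega
            rw [hp2, hq7] at hq
            have : Even (2 ^ f) := (by decide : Even 2).pow_of_ne_zero (by omega)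
            rw [← hq] at this
            exact absurd this (by decide)
          rw [hf1, hq7]
          norm_num
        · -- `q = 10`
          have hq10 : q = 10 := hqt
          exfalso
          rw [hq10] at hq
          have h5 : Nat.Prime 5 := by norm_num
          have h1 : 5 ∣ p ^ f := hq ▸ (by norm_num : 5 ∣ 10)
          have h2 : 2 ∣ p ^ f := hq ▸ (by norm_num : 2 ∣ 10)
          have h3 := (Nat.prime_dvd_prime_iff_eq h5 hp).1 (h5.dvd_of_dvd_pow h1)
          have h4 := (Nat.prime_dvd_prime_iff_eq Nat.prime_two hp).1 (Nat.prime_two.dvd_of_dvd_pow h2)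
          omega
        · have hq13 : q = 13 := hqt
          have : f ≤ 3 := by
            by_contra hcon
            have : 2 ^ 4 ≤ 2 ^ f := Nat.pow_le_pow_right (by norm_num) (by omega)
            omega
          rw [hq13]
          omega
        · have hq13 : q = 16 := hqt
          rw [hq13]
          omega
      · have : 19 * q ≤ q ^ 2 := by nlinarith only [h19]
        omega
    have hb : q ^ 2 + q + 1 = 3 * (3 * t ^ 2 + 3 * t + 1) := by rw [hqt]; ring
    refine crit_num (N := 3) (D := 3) (M' := (q ^ 2 - 1) * (q ^ 3 - 1)) (o := 3 * (2 * f)) (a := q ^ 2 - 1)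
      (b := 3 * t ^ 2 + 3 * t + 1) hs hL hq hf hS hlcop ho.le (hc1 _ ?_ ?_) ?_ ?_ ?_ ?_ hlpos
    · rw [hb]
      exact Dvd.intro_left 3 rfl
    · omega
    · rw [e3, hb]
      exact ⟨q - 1, by ring⟩
    · (clear * - hkey; omega)
    · omega
    · have h4 : 2 * (3 * (2 * f)) * q ^ 3 * 3 ≤ (q ^ 2 - 2) * q ^ 3 := by
        calc 2 * (3 * (2 * f)) * q ^ 3 * 3 = (36 * f) * q ^ 3 := by ring
          _ ≤ (q ^ 2 - 2) * q ^ 3 := by gcongr; (clear * - hkey; omega)
      refine h4.trans ?_
      obtain ⟨s, hs'⟩ : ∃ s, q ^ 2 = s + 2 := ⟨q ^ 2 - 2, by (clear * - h2; omega)⟩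
      obtain ⟨w, hw⟩ : ∃ w, q ^ 3 = w + 1 := ⟨q ^ 3 - 1, by omega⟩
      have hsw : s + 1 ≤ w + 1 := by
        have : q ^ 2 ≤ q ^ 3 := Nat.pow_le_pow_right (by omega) (by norm_num)
        (clear * - hs' hw this; omega)
      rw [hs', hw, show s + 2 - 2 = s by (clear * -; omega), show s + 2 - 1 = s + 1 by (clear * -; omega), show w + 1 - 1 = w by omega]
      linarith only [hsw]

/-- A group of order 168. -/
theorem crit_168 {G : Type u} [Group G] [Finite G] (hs : IsSimpleGroup G) (hc : Nat.card G = 168)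
    (ho : Nat.card (Out G) = 2) : Crit G := by
  have := hs
  obtain ⟨T⟩ : Nonempty (Sylow 2 G) := inferInstance
  obtain ⟨r, -, hr⟩ := SmallSimple.Simple168Classes.exists_four hc T
  have h4 := SmallSimple.Simple168Classes.card_centralizer_four hc r hr
  refine crit_expl r hc (by norm_num) ho h4.le [(2, 3, 1), (3, 1, 0), (7, 1, 0)] (by norm_num) ?_ (by norm_num)
  intro t ht
  simp only [List.mem_cons, List.not_mem_nil, or_false] at ht
  rcases ht with rfl | rfl | rfl <;> norm_num

/-! ### `PSL_3(4)` -/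

section Four

open Matrix

variable {F : Type} [Field F]

/-- companion matrix of `X^3 - X^2 - 1` -/
def comp (F : Type) [Field F] : _root_.Matrix.SpecialLinearGroup (Fin 3) F :=
  ⟨!![0, 0, 1; 1, 0, 0; 0, 1, 1], by simp [Matrix.det_fin_three]⟩

theorem comp_trace : (comp F : Matrix (Fin 3) (Fin 3) F).trace = 1 := by
  simp only [comp, Matrix.trace, Fin.sum_univ_three, _root_.Matrix.diag_apply, _root_.Matrix.of_apply, _root_.Matrix.cons_val', _root_.Matrix.cons_val_fin_one, _root_.Fin.isValue, _root_.Matrix.cons_val_zero, _root_.Matrix.cons_val_one, _root_.add_zero, _root_.Matrix.cons_val, _root_.zero_add]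

theorem comm_of_mk {g : _root_.Matrix.SpecialLinearGroup (Fin 3) F}
    (h : (QuotientGroup.mk g : ProjectiveSpecialLinearGroup (Fin 3) F) ∈
      Subgroup.centralizer {(QuotientGroup.mk (comp F) : ProjectiveSpecialLinearGroup (Fin 3) F)}) :
    g * comp F = comp F * g := by
  rw [Subgroup.mem_centralizer_singleton_iff] at h
  have h1 : (QuotientGroup.mk (comp F * g) : ProjectiveSpecialLinearGroup (Fin 3) F) = QuotientGroup.mk (g * comp F) :=
    h.symm
  rw [QuotientGroup.eq] at h1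
  obtain ⟨r, hr, hr'⟩ := Matrix.SpecialLinearGroup.mem_center_iff.1 h1
  -- `comp F * g * z = g * comp F`
  have h2 : comp F * g * ((comp F * g)⁻¹ * (g * comp F)) = g * comp F := mul_inv_cancel_left _ _
  have h3 : (comp F : Matrix (Fin 3) (Fin 3) F) * (g : Matrix (Fin 3) (Fin 3) F) * Matrix.scalar (Fin 3) r =
      (g : Matrix (Fin 3) (Fin 3) F) * (comp F : Matrix (Fin 3) (Fin 3) F) := by
    rw [hr', ← Matrix.SpecialLinearGroup.coe_mul, ← Matrix.SpecialLinearGroup.coe_mul, h2,
      Matrix.SpecialLinearGroup.coe_mul]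
  have h4 : (comp F : Matrix (Fin 3) (Fin 3) F) * (g : Matrix (Fin 3) (Fin 3) F) * Matrix.scalar (Fin 3) r =
      r • ((comp F : Matrix (Fin 3) (Fin 3) F) * (g : Matrix (Fin 3) (Fin 3) F)) := by
    rw [Matrix.scalar_apply, ← Matrix.smul_eq_mul_diagonal]
  have h5 : r = 1 := by
    have hg : (g : Matrix (Fin 3) (Fin 3) F) * ((g⁻¹ : _root_.Matrix.SpecialLinearGroup (Fin 3) F) : Matrix (Fin 3) (Fin 3) F) = 1 := by
      rw [← Matrix.SpecialLinearGroup.coe_mul, mul_inv_cancel, Matrix.SpecialLinearGroup.coe_one]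
    have h6 := congrArg (fun M => (M * ((g⁻¹ : _root_.Matrix.SpecialLinearGroup (Fin 3) F) : Matrix (Fin 3) (Fin 3) F)).trace)
      (h4.symm.trans h3)
    simp only [Matrix.smul_mul, Matrix.mul_assoc, hg, Matrix.mul_one, Matrix.trace_smul, comp_trace] at h6
    rw [← Matrix.mul_assoc, Matrix.trace_mul_comm, ← Matrix.mul_assoc] at h6
    have hg' : ((g⁻¹ : _root_.Matrix.SpecialLinearGroup (Fin 3) F) : Matrix (Fin 3) (Fin 3) F) * (g : Matrix (Fin 3) (Fin 3) F) = 1 := by
      rw [← Matrix.SpecialLinearGroup.coe_mul, inv_mul_cancel, Matrix.SpecialLinearGroup.coe_one]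
    rw [hg', Matrix.one_mul, comp_trace] at h6
    simpa using h6
  apply Subtype.ext
  rw [h4, h5, one_smul] at h3
  exact h3.symm

theorem col_inj {g g' : _root_.Matrix.SpecialLinearGroup (Fin 3) F} (hg : g * comp F = comp F * g) (hg' : g' * comp F = comp F * g')
    (h : ∀ i, (g : Matrix (Fin 3) (Fin 3) F) i 0 = (g' : Matrix (Fin 3) (Fin 3) F) i 0) : g = g' := by
  have key : ∀ g : _root_.Matrix.SpecialLinearGroup (Fin 3) F, g * comp F = comp F * g →
      (g : Matrix (Fin 3) (Fin 3) F) 0 1 = (g : Matrix (Fin 3) (Fin 3) F) 2 0 ∧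
      (g : Matrix (Fin 3) (Fin 3) F) 1 1 = (g : Matrix (Fin 3) (Fin 3) F) 0 0 ∧
      (g : Matrix (Fin 3) (Fin 3) F) 2 1 = (g : Matrix (Fin 3) (Fin 3) F) 1 0 + (g : Matrix (Fin 3) (Fin 3) F) 2 0 ∧
      (g : Matrix (Fin 3) (Fin 3) F) 0 2 = (g : Matrix (Fin 3) (Fin 3) F) 2 1 ∧
      (g : Matrix (Fin 3) (Fin 3) F) 1 2 = (g : Matrix (Fin 3) (Fin 3) F) 0 1 ∧
      (g : Matrix (Fin 3) (Fin 3) F) 2 2 = (g : Matrix (Fin 3) (Fin 3) F) 1 1 + (g : Matrix (Fin 3) (Fin 3) F) 2 1 := by
    intro g hg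
    have h1 : (g : Matrix (Fin 3) (Fin 3) F) * (comp F : Matrix (Fin 3) (Fin 3) F) =
        (comp F : Matrix (Fin 3) (Fin 3) F) * (g : Matrix (Fin 3) (Fin 3) F) := by
      rw [← Matrix.SpecialLinearGroup.coe_mul, hg, Matrix.SpecialLinearGroup.coe_mul]
    have e00 := congrFun (congrFun h1 0) 0
    have e10 := congrFun (congrFun h1 1) 0
    have e20 := congrFun (congrFun h1 2) 0
    have e01 := congrFun (congrFun h1 0) 1
    have e11 := congrFun (congrFun h1 1) 1
    have e21 := congrFun (congrFun h1 2) 1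
    simp only [comp, Matrix.mul_apply, Fin.sum_univ_three, _root_.Fin.isValue, _root_.Matrix.of_apply, _root_.Matrix.cons_val', _root_.Matrix.cons_val_zero, _root_.Matrix.cons_val_fin_one, _root_.MulZeroClass.mul_zero, _root_.Matrix.cons_val_one, _root_.mul_one, _root_.zero_add, _root_.Matrix.cons_val, _root_.add_zero, _root_.MulZeroClass.zero_mul, _root_.one_mul] at e00 e10 e20 e01 e11 e21
    exact ⟨e00, e10, e20, e01, e11, e21⟩
  obtain ⟨a1, a2, a3, a4, a5, a6⟩ := key g hg
  obtain ⟨b1, b2, b3, b4, b5, b6⟩ := key g' hg'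
  apply Subtype.ext
  ext i j
  fin_cases j
  · exact h i
  · fin_cases i
    · change (g : Matrix (Fin 3) (Fin 3) F) 0 1 = (g' : Matrix (Fin 3) (Fin 3) F) 0 1
      rw [a1, b1, h]
    · change (g : Matrix (Fin 3) (Fin 3) F) 1 1 = (g' : Matrix (Fin 3) (Fin 3) F) 1 1
      rw [a2, b2, h]
    · change (g : Matrix (Fin 3) (Fin 3) F) 2 1 = (g' : Matrix (Fin 3) (Fin 3) F) 2 1
      rw [a3, b3, h, h]
  · fin_cases i
    · change (g : Matrix (Fin 3) (Fin 3) F) 0 2 = (g' : Matrix (Fin 3) (Fin 3) F) 0 2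
      rw [a4, b4, a3, b3, h, h]
    · change (g : Matrix (Fin 3) (Fin 3) F) 1 2 = (g' : Matrix (Fin 3) (Fin 3) F) 1 2
      rw [a5, b5, a1, b1, h]
    · change (g : Matrix (Fin 3) (Fin 3) F) 2 2 = (g' : Matrix (Fin 3) (Fin 3) F) 2 2
      rw [a6, b6, a2, b2, a3, b3, h, h, h]

theorem two_mul_le [Fintype F] (hF : Fintype.card F = 4) :
    Nat.card (Subgroup.centralizer {(QuotientGroup.mk (comp F) : ProjectiveSpecialLinearGroup (Fin 3) F)}) ≤ 31 := by
  classical
  set C := Subgroup.centralizer {(QuotientGroup.mk (comp F) : ProjectiveSpecialLinearGroup (Fin 3) F)} with hC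
  set Z := Subgroup.center (_root_.Matrix.SpecialLinearGroup (Fin 3) F) with hZ
  have hfin : Finite (ProjectiveSpecialLinearGroup (Fin 3) F) := inferInstanceAs (Finite (_ ⧸ _))
  set H := C.comap (QuotientGroup.mk' Z) with hH
  have h1 : Nat.card H = Nat.card C * Nat.card Z := by
    have a1 := Subgroup.card_mul_index H
    have a2 := Subgroup.card_mul_index C
    have a3 : H.index = C.index := Subgroup.index_comap_of_surjective C (QuotientGroup.mk'_surjective Z)
    have a4 : Nat.card (_root_.Matrix.SpecialLinearGroup (Fin 3) F) =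
        Nat.card (ProjectiveSpecialLinearGroup (Fin 3) F) * Nat.card Z := Subgroup.card_eq_card_quotient_mul_card_subgroup Z
    rw [a4, ← a2, a3] at a1
    have a5 : C.index ≠ 0 := Subgroup.index_ne_zero_of_finite
    apply Nat.eq_of_mul_eq_mul_right (Nat.pos_of_ne_zero a5)
    rw [a1]
    ring
  have h2 : Nat.card H < 64 := by
    let φ : H → {v : Fin 3 → F // v ≠ 0} := fun g =>
      ⟨fun i => (g.1 : Matrix (Fin 3) (Fin 3) F) i 0, by
        intro h0
        have hdet := g.1.2
        rw [Matrix.det_eq_zero_of_column_eq_zero 0 fun i => congrFun h0 i] at hdet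
        exact zero_ne_one hdet⟩
    have hφ : Function.Injective φ := by
      intro g g' h
      have h3 := congrArg Subtype.val h
      apply Subtype.ext
      exact col_inj (comm_of_mk g.2) (comm_of_mk g'.2) fun i => congrFun h3 i
    have h3 : Nat.card H ≤ Nat.card {v : Fin 3 → F // v ≠ 0} := Nat.card_le_card_of_injective φ hφ
    have h4 : Nat.card {v : Fin 3 → F // v ≠ 0} < Nat.card (Fin 3 → F) :=
      Finite.card_subtype_lt (x := 0) (by simp)
    have h5 : Nat.card (Fin 3 → F) = 64 := by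
      rw [Nat.card_eq_fintype_card, Fintype.card_fun, Fintype.card_fin, hF]
      norm_num
    omega
  have h3 : 2 ≤ Nat.card Z := by
    obtain ⟨r, hr0, hr1⟩ : ∃ r : F, r ≠ 0 ∧ r ≠ 1 := by
      by_contra hcon
      push Not at hcon
      have h4 : (Finset.univ : Finset F) ⊆ {0, 1} := by
        intro r _
        by_cases hr : r = 0
        · simp only [hr, _root_.Finset.mem_insert, _root_.Finset.mem_singleton, _root_.zero_ne_one, _root_.or_false]
        · simp only [hcon r hr, _root_.Finset.mem_insert, _root_.one_ne_zero, _root_.Finset.mem_singleton, _root_.or_true]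
      have h5 := Finset.card_le_card h4
      rw [Finset.card_univ, hF] at h5
      have h6 : ({0, 1} : Finset F).card ≤ 2 := Finset.card_le_two
      omega
    have hr3 : r ^ 3 = 1 := by
      have := FiniteField.pow_card_sub_one_eq_one r hr0
      rwa [hF] at this
    let s : _root_.Matrix.SpecialLinearGroup (Fin 3) F := ⟨Matrix.scalar (Fin 3) r, by
      rw [Matrix.scalar_apply, Matrix.det_diagonal, Finset.prod_const, Finset.card_univ, Fintype.card_fin, hr3]⟩
    have hs : s ∈ Z := Matrix.SpecialLinearGroup.mem_center_iff.2 ⟨r, by rw [Fintype.card_fin, hr3], rfl⟩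
    have hs1 : s ≠ 1 := by
      intro h
      have h4 := congrFun (congrFun (congrArg (fun g : _root_.Matrix.SpecialLinearGroup (Fin 3) F => (g : Matrix (Fin 3) (Fin 3) F)) h) 0) 0
      simp [s] at h4
      exact hr1 h4
    have h4 : Nontrivial Z := ⟨⟨s, hs⟩, 1, fun h => hs1 (congrArg Subtype.val h)⟩
    exact Finite.one_lt_card
  have h4 : Nat.card C * 2 ≤ Nat.card C * Nat.card Z := Nat.mul_le_mul_left _ h3
  omega

end Four

theorem crit_L34 {G : Type u} [Group G] [Finite G] {F : Type} [Field F] [Fintype F] (hF : Fintype.card F = 4)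
    (e : G ≃* Matrix.ProjectiveSpecialLinearGroup (Fin 3) F) (hc : Nat.card G = 20160) (ho : Nat.card (Out G) = 12) :
    Crit G := by
  have h1 := two_mul_le hF
  rw [← MulEquiv.apply_symm_apply e (QuotientGroup.mk (comp F)), ← card_centralizer_congr e] at h1
  refine crit_expl _ hc (by norm_num) ho h1 [(2, 6, 2), (3, 2, 1), (5, 1, 0), (7, 1, 0)] (by norm_num) ?_ (by norm_num)
  intro t ht
  simp only [List.mem_cons, List.not_mem_nil, or_false] at ht
  rcases ht with rfl | rfl | rfl | rfl <;> norm_num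

theorem card_out_psl {F : Type} [Field F] [Fintype F] {p f n : ℕ} [Fact p.Prime] (hf : 1 ≤ f)
    (hF : Fintype.card F = p ^ f) (hn : 3 ≤ n) :
    Nat.card (Out (Matrix.ProjectiveSpecialLinearGroup (Fin n) F)) = Nat.gcd n (p ^ f - 1) * (2 * f) := by
  obtain ⟨φ, h1, -, h2⟩ := Cfsg.Agent.S2601.result hf hF hn
  have h3 := Subgroup.card_mul_index φ.ker
  rw [h2, Subgroup.index_ker, MonoidHom.range_eq_top.2 h1, Subgroup.card_top] at h3
  rw [← h3]
  congr 1
  have h4 : Nat.card (Multiplicative (ZMod f × ZMod 2)) = Nat.card (ZMod f × ZMod 2) :=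
    Nat.card_congr Multiplicative.toAdd
  rw [h4, Nat.card_prod, Nat.card_zmod, Nat.card_zmod, mul_comm]

theorem crit_psl {G : Type u} [Group G] [Finite G] (hs : IsSimpleGroup G) {F : Type} [iF : Field F] [iF' : Fintype F]
    {n : ℕ} (hn : 3 ≤ n) (e : G ≃* Matrix.ProjectiveSpecialLinearGroup (Fin n) F) : Crit G := by
  obtain ⟨p, f, hp, hf, hF, hch⟩ := field_data F
  have : Fact p.Prime := ⟨hp⟩
  have hL : IsLieTypeChar p G := Or.inl ⟨F, iF, iF', hch, n, by omega, fun h => absurd h (by omega), ⟨e⟩⟩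
  have ho : Nat.card (Out G) = Nat.gcd n (p ^ f - 1) * (2 * f) := by
    rw [card_out_congr e, card_out_psl hf hF hn]
  have hS := Cfsg.Agent.S0243.result hF n (by omega)
  rw [← Nat.card_congr e.toEquiv] at hS
  have hq2 : 2 ≤ p ^ f := by
    calc 2 ≤ p := hp.two_le
      _ = p ^ 1 := (pow_one p).symm
      _ ≤ p ^ f := Nat.pow_le_pow_right hp.pos hf
  obtain ⟨q, hq⟩ : ∃ q, q = p ^ f := ⟨_, rfl⟩
  rw [← hq] at hS hq2 ho hF
  obtain ⟨k, rfl⟩ : ∃ k, n = k + 2 + 1 := ⟨n - 3, by omega⟩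
  rw [prod_eq (by omega)] at hS
  have hS' : Nat.gcd (k + 3) (q - 1) * Nat.card G =
      q ^ (∑ i ∈ Finset.range (k + 2 + 1), i) * ln q (k + 2) := by
    apply Nat.eq_of_mul_eq_mul_left (show 0 < q - 1 by omega)
    rw [← hS]
    ring
  rcases Nat.eq_zero_or_pos k with hk | hk
  · subst hk
    have e3 : ∑ i ∈ Finset.range (0 + 2 + 1), i = 3 := by decide
    rw [e3, show (0 : ℕ) + 3 = 3 by norm_num, show (0 : ℕ) + 2 = 2 by norm_num, ln_two] at hS'
    by_cases hq22 : q = 2
    · rw [hq22] at hS' ho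
      have hf1 : f = 1 := by
        have h1 := two_mul_f_le hp.two_le hf hq
        omega
      rw [hf1] at ho
      norm_num only [_root_.one_mul] at hS' ho
      exact crit_168 hs hS' ho
    · by_cases hq4 : q = 4
      · rw [hq4] at hS' ho
        have hf1 : f = 2 := by
          have h1 := two_mul_f_le hp.two_le hf hq
          have h2 : f ≠ 1 := by
            rintro rfl
            rw [hq4, pow_one] at hq
            rw [← hq] at hp
            exact absurd hp (by norm_num)
          omega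
        rw [hf1] at ho
        norm_num only [] at hS' ho
        exact crit_L34 (hF.trans hq4) e (by omega) ho
      · exact psl_three hs hp hL hq hf rfl (by omega) hq4 hS' ho
  · exact psl_four_le hs hp hL hq hf hk rfl hS' ho

end Cfsg.Agent.H548.RowPSL

private theorem dce_13e736f717d9 : _root_.True := by
  try have : _root_.True := by simp only [_root_.Cfsg.Agent.H548.RowPSL.comp.eq_1]
  exact _root_.True.intro
end

-- part: H548/RowAlt
section
set_option linter.all false
open scoped Cfsg.Agent.FastGrp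

/-!
# `Crit` for the alternating groups (helper548, for S4239)
-/

set_option autoImplicit false

namespace Cfsg.Agent.H548.RowAlt

open Cfsg Cfsg.Agent.H548.Crit Cfsg.Agent.H548.LieNum Cfsg.Agent.H548.RowPSp Equiv.Perm

universe u

/-- all prime powers dividing `n!` are at most `2 ^ (n - 1)` -/
theorem ordProj_factorial {p n : ℕ} (hp : p.Prime) (hn : 1 ≤ n) : ordProj[p] (n.factorial) ≤ 2 ^ (n - 1) := by
  have : Fact p.Prime := ⟨hp⟩
  have h1 := sub_one_mul_padicValNat_factorial (p := p) n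
  have h2 : 1 ≤ (p.digits n).sum := by
    by_contra hcon
    have h3 : (p.digits n).sum = 0 := by omega
    have h4 : n = 0 := by
      rw [List.sum_eq_zero_iff] at h3
      have h5 : Nat.ofDigits p (p.digits n) = n := Nat.ofDigits_digits p n
      rw [← h5]
      have h6 : ∀ L : List ℕ, (∀ x ∈ L, x = 0) → Nat.ofDigits p L = 0 := by
        intro L
        induction L with
        | nil => intro _; rfl
        | cons a L ih =>
          intro h
          rw [Nat.ofDigits_cons, h a (by simp), ih fun x hx => h x (by simp [hx])]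
          simp
      exact h6 _ h3
    omega
  rw [← Nat.factorization_def _ hp] at h1
  have h5 : p ≤ 2 ^ (p - 1) := by
    obtain ⟨k, rfl⟩ : ∃ k, p = k + 1 := ⟨p - 1, by have := hp.pos; omega⟩
    have := Nat.lt_two_pow_self (n := k)
    simpa using this
  calc p ^ (n.factorial).factorization p ≤ (2 ^ (p - 1)) ^ (n.factorial).factorization p := Nat.pow_le_pow_left h5 _
    _ = 2 ^ ((p - 1) * (n.factorial).factorization p) := by rw [pow_mul]
    _ ≤ 2 ^ (n - 1) := Nat.pow_le_pow_right (by norm_num) (by omega)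

theorem pow_le_factorial (k : ℕ) : 2 ^ (k + 9) ≤ (k + 6).factorial := by
  induction k with
  | zero => norm_num [Nat.factorial]
  | succ k ih =>
    rw [show k + 1 + 9 = (k + 9) + 1 by ring, show k + 1 + 6 = (k + 6) + 1 by ring, pow_succ, Nat.factorial_succ]
    calc 2 ^ (k + 9) * 2 ≤ (k + 6).factorial * (k + 6 + 1) := Nat.mul_le_mul ih (by omega)
      _ = _ := by ring

/-- an odd cycle with few fixed points -/
theorem exists_cycle {n m : ℕ} (hm : m ≤ n) (hm3 : 3 ≤ m) (hodd : Odd m) :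
    ∃ x : alternatingGroup (Fin n), Nat.card (Subgroup.centralizer ({(x : Equiv.Perm (Fin n))} : Set (Equiv.Perm (Fin n)))) =
      (n - m).factorial * m ∧ (x : Equiv.Perm (Fin n)).cycleType = {m} := by
  obtain ⟨g, hg⟩ := (Equiv.Perm.exists_with_cycleType_iff (α := Fin n) (m := {m})).2
    ⟨by rw [Multiset.sum_singleton, Fintype.card_fin]; exact hm, by
      intro a ha
      rw [Multiset.mem_singleton] at ha
      omega⟩
  have hs : Equiv.Perm.sign g = 1 := by
    rw [Equiv.Perm.sign_of_cycleType, hg, Multiset.sum_singleton, Multiset.card_singleton]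
    exact (hodd.add_one).neg_one_pow
  refine ⟨⟨g, Equiv.Perm.mem_alternatingGroup.2 hs⟩, ?_, hg⟩
  rw [Equiv.Perm.nat_card_centralizer, hg]
  simp

theorem centralizer_le {n : ℕ} (x : alternatingGroup (Fin n)) :
    Nat.card (Subgroup.centralizer ({x} : Set (alternatingGroup (Fin n)))) ≤
      Nat.card (Subgroup.centralizer ({(x : Equiv.Perm (Fin n))} : Set (Equiv.Perm (Fin n)))) := by
  refine Nat.card_le_card_of_injective (fun g => ⟨(g : alternatingGroup (Fin n)), ?_⟩) ?_
  · have h := g.2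
    rw [Subgroup.mem_centralizer_singleton_iff] at h ⊢
    exact congrArg Subtype.val h
  · intro g h hgh
    have h1 : ((g : alternatingGroup (Fin n)) : Equiv.Perm (Fin n)) = ((h : alternatingGroup (Fin n)) : Equiv.Perm (Fin n)) :=
      congrArg (fun z : Subgroup.centralizer ({(x : Equiv.Perm (Fin n))} : Set (Equiv.Perm (Fin n))) => (z : Equiv.Perm (Fin n))) hgh
    exact Subtype.ext (Subtype.ext h1)

theorem card_alt {n : ℕ} (hn : 2 ≤ n) : 2 * Nat.card (alternatingGroup (Fin n)) = n.factorial := by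
  have : Nontrivial (Fin n) := Fin.nontrivial_iff_two_le.2 hn
  rw [two_mul_nat_card_alternatingGroup, Nat.card_perm, Nat.card_eq_fintype_card, Fintype.card_fin]

theorem card_out_alt {n : ℕ} (hn : 5 ≤ n) (h6 : n ≠ 6) (hs : IsSimpleGroup (alternatingGroup (Fin n)))
    (hna : ¬ IsMulCommutative (alternatingGroup (Fin n))) : Nat.card (Out (alternatingGroup (Fin n))) = 2 := by
  apply card_out_of_mulAut hs hna
  rw [card_alt (by omega), ← Nat.card_congr (Equiv.ofBijective _ (Cfsg.Agent.S2119.result n (by omega) h6)),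
    Nat.card_perm, Nat.card_eq_fintype_card, Fintype.card_fin]

theorem card_out_six : Nat.card (Out (alternatingGroup (Fin 6))) = 4 := by
  have : Fact (Nat.Prime 3) := ⟨Nat.prime_three⟩
  have : Fintype (GaloisField 3 2) := Fintype.ofFinite _
  have hF : Fintype.card (GaloisField 3 2) = 3 ^ 2 := by
    rw [← Nat.card_eq_fintype_card]
    exact GaloisField.card 3 2 (by norm_num)
  obtain ⟨e⟩ := Cfsg.Agent.S0254.result (F := GaloisField 3 2) (by rw [hF]; norm_num)
  rw [← card_out_congr e]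
  obtain ⟨φ, h1, -, h2⟩ := Cfsg.Agent.S2602.result (F := GaloisField 3 2) (p := 3) (f := 2) (by norm_num) hF (by norm_num)
  have h3 := Subgroup.card_mul_index φ.ker
  rw [h2, Subgroup.index_ker, MonoidHom.range_eq_top.2 h1, Subgroup.card_top] at h3
  have h4 : Nat.card (Multiplicative (ZMod 2)) = 2 := by
    rw [Nat.card_congr Multiplicative.toAdd, Nat.card_zmod]
  rw [h4] at h3
  rw [← h3]
  norm_num

theorem three_cycle : ∃ x : alternatingGroup (Fin 5),
    Nat.card (Subgroup.centralizer ({x} : Set (alternatingGroup (Fin 5)))) ≤ 3 := by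
  obtain ⟨x, hx, hxc⟩ := exists_cycle (n := 5) (m := 3) (by norm_num) (by norm_num) (by decide)
  refine ⟨x, ?_⟩
  have h6 : Nat.card (Subgroup.centralizer ({(x : Equiv.Perm (Fin 5))} : Set (Equiv.Perm (Fin 5)))) = 6 := by
    rw [hx]; rfl
  set C := Subgroup.centralizer ({(x : Equiv.Perm (Fin 5))} : Set (Equiv.Perm (Fin 5))) with hC
  -- an odd permutation commuting with `x`
  have hsupp : (x : Equiv.Perm (Fin 5)).support.card = 3 := by
    rw [← Equiv.Perm.sum_cycleType, hxc, Multiset.sum_singleton]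
  obtain ⟨a, b, hab, ha, hb⟩ : ∃ a b : Fin 5, a ≠ b ∧ a ∉ (x : Equiv.Perm (Fin 5)).support ∧
      b ∉ (x : Equiv.Perm (Fin 5)).support := by
    have h1 : 1 < ((x : Equiv.Perm (Fin 5)).supportᶜ).card := by
      rw [Finset.card_compl, Fintype.card_fin, hsupp]
      norm_num
    obtain ⟨a, ha, b, hb, hab⟩ := Finset.one_lt_card.1 h1
    exact ⟨a, b, hab, Finset.mem_compl.1 ha, Finset.mem_compl.1 hb⟩
  have hsw : Equiv.swap a b ∈ C := by
    rw [hC, Subgroup.mem_centralizer_singleton_iff]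
    have hd : Equiv.Perm.Disjoint (Equiv.swap a b) (x : Equiv.Perm (Fin 5)) := by
      intro i
      by_cases hi : i = a
      · right
        rw [hi]
        exact Equiv.Perm.notMem_support.1 ha
      · by_cases hi' : i = b
        · right
          rw [hi']
          exact Equiv.Perm.notMem_support.1 hb
        · left
          exact Equiv.swap_apply_of_ne_of_ne hi hi'
    exact hd.commute.eq
  -- the index of the alternating part is at least two
  set A := (alternatingGroup (Fin 5)).subgroupOf C with hA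
  have hAtop : A ≠ ⊤ := by
    intro h
    have h1 : (⟨Equiv.swap a b, hsw⟩ : C) ∈ A := h ▸ Subgroup.mem_top _
    rw [hA, Subgroup.mem_subgroupOf, Equiv.Perm.mem_alternatingGroup] at h1
    change Equiv.Perm.sign (Equiv.swap a b) = 1 at h1
    rw [Equiv.Perm.sign_swap hab] at h1
    exact absurd h1 (by decide)
  have hidx : 2 ≤ A.index := by
    have h1 : A.index ≠ 1 := fun h => hAtop (Subgroup.index_eq_one.1 h)
    have h2 : A.index ≠ 0 := Subgroup.index_ne_zero_of_finite
    omega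
  have hcm := Subgroup.card_mul_index A
  rw [h6] at hcm
  have h3 : Nat.card A ≤ 3 := by
    have : Nat.card A * 2 ≤ Nat.card A * A.index := Nat.mul_le_mul_left _ hidx
    omega
  refine le_trans ?_ h3
  refine Nat.card_le_card_of_injective (fun g => ⟨⟨((g : alternatingGroup (Fin 5)) : Equiv.Perm (Fin 5)), ?_⟩, ?_⟩) ?_
  · have h := g.2
    rw [hC]
    rw [Subgroup.mem_centralizer_singleton_iff] at h ⊢
    exact congrArg Subtype.val h
  · rw [hA, Subgroup.mem_subgroupOf]
    exact (g : alternatingGroup (Fin 5)).2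
  · intro g h hgh
    exact Subtype.ext (Subtype.ext (congrArg (fun z : A => ((z : C) : Equiv.Perm (Fin 5))) hgh))

theorem crit_alt_core {n : ℕ} (hn : 5 ≤ n) (hs : IsSimpleGroup (alternatingGroup (Fin n)))
    (hna : ¬ IsMulCommutative (alternatingGroup (Fin n))) : Crit (alternatingGroup (Fin n)) := by
  have hc := card_alt (n := n) (by omega)
  have hn56 : n = 5 ∨ n = 6 ∨ 7 ≤ n := by omega
  rcases hn56 with rfl | rfl | hn7
  · have ho := card_out_alt (n := 5) le_rfl (by norm_num) hs hna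
    have hcard : Nat.card (alternatingGroup (Fin 5)) = 60 := by
      rw [show Nat.factorial 5 = 120 from rfl] at hc
      omega
    obtain ⟨x, hx⟩ := three_cycle
    refine crit_expl x hcard (by norm_num) ho hx [(2, 2, 1), (3, 1, 0), (5, 1, 0)] (by norm_num) ?_ (by norm_num)
    intro t ht
    simp only [List.mem_cons, List.not_mem_nil, or_false] at ht
    rcases ht with rfl | rfl | rfl <;> norm_num
  · have hcard : Nat.card (alternatingGroup (Fin 6)) = 360 := by
      rw [show Nat.factorial 6 = 720 from rfl] at hc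
      omega
    obtain ⟨x, hx, -⟩ := exists_cycle (n := 6) (m := 5) (by norm_num) (by norm_num) (by decide)
    have hx' := (centralizer_le x).trans hx.le
    norm_num at hx'
    refine crit_expl x hcard (by norm_num) card_out_six hx' [(2, 3, 2), (3, 2, 0), (5, 1, 0)] (by norm_num) ?_ (by norm_num)
    intro t ht
    simp only [List.mem_cons, List.not_mem_nil, or_false] at ht
    rcases ht with rfl | rfl | rfl <;> norm_num
  · have ho := card_out_alt hn (by omega) hs hna
    obtain ⟨m, hmn, hm3, hodd, hfac⟩ : ∃ m, m ≤ n ∧ 3 ≤ m ∧ Odd m ∧ (n - m).factorial = 1 := by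
      rcases Nat.even_or_odd n with h | h
      · refine ⟨n - 1, by omega, by omega, Nat.Even.sub_odd (by omega) h odd_one, ?_⟩
        rw [show n - (n - 1) = 1 by omega]
        rfl
      · refine ⟨n, le_rfl, by omega, h, ?_⟩
        rw [Nat.sub_self]
        rfl
    obtain ⟨x, hx, -⟩ := exists_cycle hmn hm3 hodd
    rw [hfac, one_mul] at hx
    have hx' : Nat.card (Subgroup.centralizer ({x} : Set (alternatingGroup (Fin n)))) ≤ n :=
      ((centralizer_le x).trans hx.le).trans hmn
    refine crit_of_card x (o := 2) (B := 2 ^ (n - 1)) hx' ho.le (fun p hp => ?_) ?_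
    · refine le_trans ?_ (ordProj_factorial hp (by omega : 1 ≤ n))
      refine Nat.le_of_dvd (pow_pos hp.pos _) (Nat.ordProj_dvd_ordProj_of_dvd (Nat.factorial_ne_zero n) ?_ p)
      rw [← hc]
      exact Dvd.intro_left 2 rfl
    · obtain ⟨k, rfl⟩ : ∃ k, n = k + 7 := ⟨n - 7, by omega⟩
      have h1 := pow_le_factorial k
      have h2 : (k + 7).factorial = (k + 7) * (k + 6).factorial := Nat.factorial_succ _
      have h3 : 2 * (2 * 2 * 2 ^ (k + 7 - 1) * (k + 7)) ≤ 2 * Nat.card (alternatingGroup (Fin (k + 7))) := by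
        rw [hc, h2]
        calc 2 * (2 * 2 * 2 ^ (k + 7 - 1) * (k + 7)) = (k + 7) * 2 ^ (k + 9) := by
              rw [show k + 7 - 1 = k + 6 by omega, show k + 9 = (k + 6) + 3 by ring, pow_add]
              ring
          _ ≤ _ := by gcongr
      omega

theorem crit_alt {G : Type u} [Group G] [Finite G] (hs : IsSimpleGroup G) (hna : ¬ IsMulCommutative G)
    (hG : IsAlternating G) : Crit G := by
  obtain ⟨n, hn, ⟨e⟩⟩ := hG
  exact Crit.congr e.symm (crit_alt_core hn (simple_congr e hs) (comm_congr e hna))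

end Cfsg.Agent.H548.RowAlt
end

-- part: H548/RowPSU
section
prune_inst 0xc0203004480010000000001000000000400000000020000108000702010843008040090004800100104692801000000811000010020000000000300000030000006a540412340d0c200000801004080c00000000000000000000000000000000000000000
set_option linter.all false
open scoped Cfsg.Agent.FastGrp

/-!
# `Crit` for `PSU_n(q)`, `n ≥ 3` (helper548, for S4239)
-/

set_option autoImplicit false

namespace Cfsg.Agent.H548.RowPSU

open Cfsg Cfsg.Agent.H548.Crit Cfsg.Agent.H548.LieNum Cfsg.Agent.H548.LieArith Cfsg.Agent.H548.RowPSp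
  Cfsg.Agent.H548.RowPSL

universe u

theorem prod_un (q k : ℕ) : ∏ i ∈ Finset.range (k + 1), (if Even i then q ^ (i + 1) + 1 else q ^ (i + 1) - 1) =
    (q + 1) * up q k := by
  have h1 : ∏ i ∈ Finset.range (k + 1), (if Even i then q ^ (i + 1) + 1 else q ^ (i + 1) - 1) =
      ∏ i ∈ Finset.range (k + 1), un q (i + 1) := by
    refine Finset.prod_congr rfl fun i _ => ?_
    unfold un
    by_cases h : Even i
    · rw [if_pos h, if_neg (by rw [Nat.even_add_one]; exact not_not.2 h)]
    · rw [if_neg h, if_pos (by rw [Nat.even_add_one]; exact h)]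
  rw [h1, Finset.prod_range_succ']
  have h2 : un q (0 + 1) = q + 1 := by simp only [un, _root_.Cfsg.Agent.H548.LieArith.un, _root_.zero_add, _root_.Nat.not_even_one, ↓ _root_.reduceIte, _root_.pow_one, _root_.Nat.add_left_cancel_iff]
  rw [h2, mul_comm]
  rfl

theorem up_two (q : ℕ) : up q 2 = (q ^ 2 - 1) * (q ^ 3 + 1) := by
  rw [up_succ, up_succ, un_even (by decide), un_odd (by decide)]
  simp only [up, _root_.Cfsg.Agent.H548.LieArith.up, _root_.Finset.range_zero, _root_.Finset.prod_empty, _root_.zero_add, _root_.one_mul, _root_.Nat.reduceAdd]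

theorem up_three (q : ℕ) : up q 3 = (q ^ 2 - 1) * (q ^ 3 + 1) * (q ^ 4 - 1) := by
  rw [up_succ, up_two, un_even (by decide)]

theorem up_five (q : ℕ) : up q 5 = (q ^ 2 - 1) * (q ^ 3 + 1) * (q ^ 4 - 1) * (q ^ 5 + 1) * (q ^ 6 - 1) := by
  rw [up_succ, up_succ, up_three, un_odd (by decide), un_even (by decide)]

theorem hs_upper {q : ℕ} (hq : 2 ≤ q) (k : ℕ) : 3 * hs q k ≤ q ^ k + 1 := by
  have h1 := hs_mul (q := q) (by omega) k
  have h2 : un q k ≤ q ^ k + 1 := by
    unfold un
    split_ifs <;> omega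
  have h3 : 3 * hs q k ≤ (q + 1) * hs q k := Nat.mul_le_mul_right _ (by omega)
  omega

theorem hs_lower {q : ℕ} (hq : 2 ≤ q) (k : ℕ) : 2 * q ^ k ≤ 3 * hs q (k + 1) + 1 := by
  have h1 := hs_add (q := q) (by omega) k
  have h2 := hs_upper hq k
  omega

theorem hs_mono {q : ℕ} (hq : 2 ≤ q) (k : ℕ) : hs q k ≤ hs q (k + 1) := by
  have h1 := hs_upper hq k
  have h2 := hs_lower hq k
  have h3 : 1 ≤ q ^ k := Nat.one_le_pow _ _ (by omega)
  omega

/-- `n = k + 3 ≥ 4` -/
theorem psu_aux {G : Type u} [Group G] [Finite G] (hs' : IsSimpleGroup G) {p f q k D : ℕ} (hL : IsLieTypeChar p G)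
    (hq : q = p ^ f) (hf : 1 ≤ f) (hq2 : 2 ≤ q) (hD : D ∣ q + 1)
    (hS : D * Nat.card G = q ^ (∑ i ∈ Finset.range (k + 2 + 1), i) * up q (k + 2))
    (ho : Nat.card (Out G) = D * (2 * f)) (h1 : 2 * (D * (2 * f)) ≤ hs q (k + 2))
    (h2 : 2 * (D * (2 * f)) * q ^ (∑ i ∈ Finset.range (k + 2 + 1), i) * D ≤ up q (k + 2)) : Crit G := by
  refine crit_num (N := ∑ i ∈ Finset.range (k + 2 + 1), i) (D := D) (M' := up q (k + 2)) (o := D * (2 * f))
    (a := hs q (k + 2)) (b := hs q (k + 3)) hs' hL hq hf hS (up_cop (by omega) _) ho.le (hs_cop (by omega) _) ?_ h1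
    (h1.trans (hs_mono hq2 _)) h2 (up_pos hq2 _)
  exact (mul_dvd_mul_left _ hD).trans (up_dvd (by omega) k)

theorem h2_of {q k D f : ℕ} (hq2 : 2 ≤ q) (h : 16 * f * D ^ 2 ≤ 3 * q ^ (k + 2)) :
    2 * (D * (2 * f)) * q ^ (∑ i ∈ Finset.range (k + 2 + 1), i) * D ≤ up q (k + 2) := by
  have h1 := up_bound hq2 (k + 1)
  rw [show k + 1 + 1 = k + 2 by ring, pow_lnE (by omega)] at h1
  generalize ∑ i ∈ Finset.range (k + 2 + 1), i = N at *
  have h4 : 4 ≤ q ^ 2 := by nlinarith only [hq2]
  obtain ⟨s, hs'⟩ : ∃ s, q ^ 2 = s + 1 := ⟨q ^ 2 - 1, by omega⟩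
  rw [hs', Nat.add_sub_cancel] at h1
  have h5 : 3 * (s + 1) ≤ 4 * s := by omega
  have h6 : (s + 1) * (3 * (q ^ N * q ^ (k + 2))) ≤ (s + 1) * (4 * up q (k + 2)) := by
    calc (s + 1) * (3 * (q ^ N * q ^ (k + 2))) = (3 * (s + 1)) * (q ^ N * q ^ (k + 2)) := by ring
      _ ≤ (4 * s) * (q ^ N * q ^ (k + 2)) := by gcongr
      _ = 4 * (s * (q ^ N * q ^ (k + 2))) := by ring
      _ ≤ 4 * ((s + 1) * up q (k + 2)) := by gcongr
      _ = _ := by ring
  have h7 := Nat.le_of_mul_le_mul_left h6 (by omega)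
  have h8 : 4 * (2 * (D * (2 * f)) * q ^ N * D) ≤ 4 * up q (k + 2) := by
    refine le_trans ?_ h7
    calc 4 * (2 * (D * (2 * f)) * q ^ N * D) = q ^ N * (16 * f * D ^ 2) := by ring
      _ ≤ q ^ N * (3 * q ^ (k + 2)) := by gcongr
      _ = _ := by ring
  omega

/-- the better bound for `q ≥ 4` -/
theorem h2_of' {q k D f : ℕ} (hq2 : 4 ≤ q) (h : 64 * f * D ^ 2 ≤ 15 * q ^ (k + 2)) :
    2 * (D * (2 * f)) * q ^ (∑ i ∈ Finset.range (k + 2 + 1), i) * D ≤ up q (k + 2) := by
  have h1 := up_bound (q := q) (by omega) (k + 1)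
  rw [show k + 1 + 1 = k + 2 by ring, pow_lnE (by omega)] at h1
  generalize ∑ i ∈ Finset.range (k + 2 + 1), i = N at *
  have h4 : 16 ≤ q ^ 2 := by nlinarith only [hq2]
  obtain ⟨s, hs'⟩ : ∃ s, q ^ 2 = s + 1 := ⟨q ^ 2 - 1, by omega⟩
  rw [hs', Nat.add_sub_cancel] at h1
  have h5 : 15 * (s + 1) ≤ 16 * s := by omega
  have h6 : (s + 1) * (15 * (q ^ N * q ^ (k + 2))) ≤ (s + 1) * (16 * up q (k + 2)) := by
    calc (s + 1) * (15 * (q ^ N * q ^ (k + 2))) = (15 * (s + 1)) * (q ^ N * q ^ (k + 2)) := by ring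
      _ ≤ (16 * s) * (q ^ N * q ^ (k + 2)) := by gcongr
      _ = 16 * (s * (q ^ N * q ^ (k + 2))) := by ring
      _ ≤ 16 * ((s + 1) * up q (k + 2)) := by gcongr
      _ = _ := by ring
  have h7 := Nat.le_of_mul_le_mul_left h6 (by omega)
  have h8 : 16 * (2 * (D * (2 * f)) * q ^ N * D) ≤ 16 * up q (k + 2) := by
    refine le_trans ?_ h7
    calc 16 * (2 * (D * (2 * f)) * q ^ N * D) = q ^ N * (64 * f * D ^ 2) := by ring
      _ ≤ q ^ N * (15 * q ^ (k + 2)) := by gcongr
      _ = _ := by ring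
  omega

theorem hs_three (q : ℕ) (hq : 1 ≤ q) : hs q 3 = q ^ 2 - q + 1 := by
  have h1 := hs_add hq 0
  have h2 := hs_add hq 1
  have h3 := hs_add hq 2
  have h0 : hs q 0 = 0 := rfl
  have h4 : q ≤ q ^ 2 := by nlinarith only []
  simp only [pow_zero, pow_one, zero_add, h0] at h1 h2 h3
  norm_num at h1 h2 h3
  omega

theorem psu_four_le {G : Type u} [Group G] [Finite G] (hs' : IsSimpleGroup G) {p f q k D : ℕ} (hp : p.Prime)
    (hL : IsLieTypeChar p G) (hq : q = p ^ f) (hf : 1 ≤ f) (hk : 1 ≤ k) (hD : D = Nat.gcd (k + 3) (q + 1))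
    (hS : D * Nat.card G = q ^ (∑ i ∈ Finset.range (k + 2 + 1), i) * up q (k + 2))
    (ho : Nat.card (Out G) = D * (2 * f)) : Crit G := by
  have hq2 : 2 ≤ q := by
    rw [hq]
    calc 2 ≤ p := hp.two_le
      _ = p ^ 1 := (pow_one p).symm
      _ ≤ p ^ f := Nat.pow_le_pow_right hp.pos hf
  have hf2 : 2 * f ≤ q := two_mul_f_le hp.two_le hf hq
  have hDn : D ∣ k + 3 := hD ▸ Nat.gcd_dvd_left _ _
  have hDq : D ∣ q + 1 := hD ▸ Nat.gcd_dvd_right _ _
  have hDle : D ≤ q + 1 := Nat.le_of_dvd (by omega) hDq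
  have hD1 : 1 ≤ D := Nat.pos_of_dvd_of_pos hDn (by omega)
  have hDk : D ≤ k + 3 := Nat.le_of_dvd (by omega) hDn
  rcases Nat.lt_or_ge 3 k with hk4 | hk3
  · -- `n ≥ 7`
    refine psu_aux hs' hL hq hf hq2 hDq hS ho ?_ (h2_of hq2 ?_)
    · have h1 := hs_lower hq2 (k + 1)
      have h2 : q ^ 5 ≤ q ^ (k + 1) := Nat.pow_le_pow_right (by omega) (by omega)
      have h3 : 2 * (D * (2 * f)) ≤ 2 * ((q + 1) * q) := by gcongr
      have h4 : 8 * q ^ 2 ≤ q ^ 5 := by
        have : 2 ^ 3 ≤ q ^ 3 := Nat.pow_le_pow_left hq2 3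
        calc 8 * q ^ 2 ≤ q ^ 3 * q ^ 2 := by gcongr; omega
          _ = q ^ 5 := by ring
      have h5 : 2 * q ≤ q ^ 2 := by nlinarith only [hq2]
      have h6 : (q + 1) * q = q ^ 2 + q := by ring
      rw [show k + 1 + 1 = k + 2 by ring] at h1
      omega
    · have h1 : 16 * f * D ^ 2 ≤ 8 * q * (q + 1) ^ 2 := by
        calc 16 * f * D ^ 2 = 8 * (2 * f) * D ^ 2 := by ring
          _ ≤ 8 * q * (q + 1) ^ 2 := by gcongr
      have h2 : 4 * (q + 1) ^ 2 ≤ 9 * q ^ 2 := by nlinarith only [hq2]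
      have h3 : 8 * q * (q + 1) ^ 2 ≤ 18 * q ^ 3 := by
        calc 8 * q * (q + 1) ^ 2 = 2 * q * (4 * (q + 1) ^ 2) := by ring
          _ ≤ 2 * q * (9 * q ^ 2) := by gcongr
          _ = _ := by ring
      have h4 : 8 * q ^ 3 ≤ q ^ 6 := by
        have : 2 ^ 3 ≤ q ^ 3 := Nat.pow_le_pow_left hq2 3
        calc 8 * q ^ 3 ≤ q ^ 3 * q ^ 3 := by gcongr; omega
          _ = q ^ 6 := by ring
      have h5 : q ^ 6 ≤ q ^ (k + 2) := Nat.pow_le_pow_right (by omega) (by omega)
      omega
  · have hk' : k = 1 ∨ k = 2 ∨ k = 3 := by omega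
    rcases hk' with rfl | rfl | rfl
    · -- `n = 4`
      rcases Nat.even_or_odd q with hev | hod
      · have hDodd : D = 1 := by
          have h1 : Odd (q + 1) := hev.add_one
          have h2 : Odd D := h1.of_dvd_nat hDq
          have h3 : Nat.Coprime (2 ^ 2) D := Nat.Coprime.pow_left 2 (Nat.coprime_two_left.2 h2)
          have h4 : D ∣ 2 ^ 2 := hDn
          exact h3.symm.eq_one_of_dvd h4
        by_cases hq22 : q = 2
        · -- `U_4(2)`
          have hf1 : f = 1 := by omega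
          have hp2 : p = 2 := by rw [hf1, pow_one] at hq; omega
          change D * Nat.card G = q ^ 6 * up q 3 at hS
          rw [hDodd, one_mul, up_three, hq22] at hS
          rw [hDodd, hf1] at ho
          norm_num only [] at hS ho
          obtain ⟨x, hx⟩ := exists_reg (N := 6) (M := 405) hs' hL (by rw [hS, hp2]; norm_num) (by rw [hp2]; norm_num)
          rw [hp2] at hx
          refine crit_expl x hS (by norm_num) ho hx [(2, 6, 1), (3, 4, 0), (5, 1, 0)] (by norm_num) ?_ (by norm_num)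
          intro t ht
          simp only [List.mem_cons, List.not_mem_nil, or_false] at ht
          rcases ht with rfl | rfl | rfl <;> norm_num
        · have hq4 : 4 ≤ q := by
            obtain ⟨l, hl⟩ := hev
            omega
          refine psu_aux hs' hL hq hf hq2 hDq hS ho ?_ (h2_of hq2 ?_)
          · change _ ≤ hs q 3
            rw [hs_three q (by omega), hDodd]
            have h1 : 4 * q ≤ q ^ 2 := by nlinarith only [hq4]
            omega
          · change _ ≤ 3 * q ^ 3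
            rw [hDodd]
            have h1 : 16 * q ≤ q ^ 3 := by
              have : 4 ^ 2 ≤ q ^ 2 := Nat.pow_le_pow_left hq4 2
              calc 16 * q ≤ q ^ 2 * q := by gcongr; omega
                _ = q ^ 3 := by ring
            omega
      · have hp3 : 3 ≤ p := by
          have := hp.two_le
          rcases hp.eq_two_or_odd' with h | h
          · exfalso
            rw [hq, h] at hod
            exact (Nat.not_odd_iff_even.2 ((by decide : Even 2).pow_of_ne_zero (by omega : f ≠ 0))) hod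
          · obtain ⟨l, hl⟩ := h
            omega
        have hf3 : 3 * f ≤ q := three_mul_f_le hp3 hf hq
        rcases Nat.lt_or_ge q 6 with hq6 | hq6
        · have hf1 : f = 1 := by omega
          have hq35 : q = 3 ∨ q = 5 := by
            obtain ⟨l, hl⟩ := hod
            omega
          rcases hq35 with hq3 | hq5
          · -- `U_4(3)`
            have hp3' : p = 3 := by rw [hf1, pow_one] at hq; omega
            have hD4 : D = 4 := by rw [hD, hq3]; norm_num
            change D * Nat.card G = q ^ 6 * up q 3 at hS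
            rw [hD4, up_three, hq3] at hS
            rw [hD4, hf1] at ho
            have hcard : Nat.card G = 3265920 := by
              norm_num at hS
              omega
            norm_num at ho
            obtain ⟨x, hx⟩ := exists_reg (N := 6) (M := 4480) hs' hL (by rw [hcard, hp3']; norm_num)
              (by rw [hp3']; norm_num)
            rw [hp3'] at hx
            refine crit_expl x hcard (by norm_num) ho hx [(2, 7, 3), (3, 6, 0), (5, 1, 0), (7, 1, 0)] (by norm_num) ?_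
              (by norm_num)
            intro t ht
            simp only [List.mem_cons, List.not_mem_nil, or_false] at ht
            rcases ht with rfl | rfl | rfl | rfl <;> norm_num
          · have hD2 : D = 2 := by rw [hD, hq5]; norm_num
            refine psu_aux hs' hL hq hf hq2 hDq hS ho ?_ (h2_of hq2 ?_)
            · change _ ≤ hs q 3
              rw [hs_three q (by omega), hD2, hq5, hf1]
              norm_num
            · rw [hD2, hq5, hf1]
              norm_num
        · have hq7 : 7 ≤ q := by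
            obtain ⟨l, hl⟩ := hod
            omega
          have h7 : 7 * q ≤ q ^ 2 := by nlinarith only [hq7]
          refine psu_aux hs' hL hq hf hq2 hDq hS ho ?_ (h2_of hq2 ?_)
          · change _ ≤ hs q 3
            rw [hs_three q (by omega)]
            have h1 : 2 * (D * (2 * f)) ≤ 2 * (4 * (2 * f)) := by gcongr
            omega
          · change _ ≤ 3 * q ^ 3
            have h1 : 16 * f * D ^ 2 ≤ 16 * f * 4 ^ 2 := by gcongr
            have h2 : 49 * q ≤ q ^ 3 := by
              have : 7 ^ 2 ≤ q ^ 2 := Nat.pow_le_pow_left hq7 2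
              calc 49 * q ≤ q ^ 2 * q := by gcongr; omega
                _ = q ^ 3 := by ring
            omega
    · -- `n = 5`
      have h5 : Nat.Prime 5 := by norm_num
      have hl := hs_lower hq2 3
      rcases (Nat.dvd_prime h5).1 hDn with hD5 | hD5
      · have h8 : 8 * q ≤ q ^ 4 := by
          have : 2 ^ 3 ≤ q ^ 3 := Nat.pow_le_pow_left hq2 3
          calc 8 * q ≤ q ^ 3 * q := by gcongr; omega
            _ = q ^ 4 := by ring
        have h4 : 4 * q ≤ q ^ 3 := by
          have : 2 ^ 2 ≤ q ^ 2 := Nat.pow_le_pow_left hq2 2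
          calc 4 * q ≤ q ^ 2 * q := by gcongr; omega
            _ = q ^ 3 := by ring
        refine psu_aux hs' hL hq hf hq2 hDq hS ho ?_ (h2_of hq2 ?_)
        · change _ ≤ hs q 4
          rw [show 3 + 1 = 4 by norm_num] at hl
          rw [hD5]
          omega
        · change _ ≤ 3 * q ^ 4
          rw [hD5]
          omega
      · have hq4 : 4 ≤ q := by omega
        have h64 : 64 * q ≤ q ^ 4 := by
          have : 4 ^ 3 ≤ q ^ 3 := Nat.pow_le_pow_left hq4 3
          calc 64 * q ≤ q ^ 3 * q := by gcongr; omega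
            _ = q ^ 4 := by ring
        have h16 : 16 * q ≤ q ^ 3 := by
          have : 4 ^ 2 ≤ q ^ 2 := Nat.pow_le_pow_left hq4 2
          calc 16 * q ≤ q ^ 2 * q := by gcongr; omega
            _ = q ^ 3 := by ring
        refine psu_aux hs' hL hq hf hq2 hDq hS ho ?_ (h2_of' hq4 ?_)
        · change _ ≤ hs q 4
          rw [show 3 + 1 = 4 by norm_num] at hl
          rw [hD5]
          omega
        · change _ ≤ 15 * q ^ 4
          rw [hD5]
          omega
    · -- `n = 6`
      by_cases hq22 : q = 2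
      · -- `U_6(2)`
        have hf1 : f = 1 := by omega
        have hp2 : p = 2 := by rw [hf1, pow_one] at hq; omega
        have hD3 : D = 3 := by rw [hD, hq22]; norm_num
        change D * Nat.card G = q ^ 15 * up q 5 at hS
        rw [hD3, up_five, hq22] at hS
        rw [hD3, hf1] at ho
        have hcard : Nat.card G = 9196830720 := by
          norm_num at hS
          omega
        norm_num at ho
        obtain ⟨x, hx⟩ := exists_reg (N := 15) (M := 280665) hs' hL (by rw [hcard, hp2]; norm_num)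
          (by rw [hp2]; norm_num)
        rw [hp2] at hx
        refine crit_expl x hcard (by norm_num) ho hx [(2, 15, 1), (3, 6, 1), (5, 1, 0), (7, 1, 0), (11, 1, 0)]
          (by norm_num) ?_ (by norm_num)
        intro t ht
        simp only [List.mem_cons, List.not_mem_nil, or_false] at ht
        rcases ht with rfl | rfl | rfl | rfl | rfl <;> norm_num
      · have hq3 : 3 ≤ q := by omega
        have hl := hs_lower hq2 4
        have h27 : 27 * q ≤ q ^ 4 := by
          have : 3 ^ 3 ≤ q ^ 3 := Nat.pow_le_pow_left hq3 3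
          calc 27 * q ≤ q ^ 3 * q := by gcongr; omega
            _ = q ^ 4 := by ring
        refine psu_aux hs' hL hq hf hq2 hDq hS ho ?_ (h2_of hq2 ?_)
        · change _ ≤ hs q 5
          rw [show 4 + 1 = 5 by norm_num] at hl
          have h1 : 2 * (D * (2 * f)) ≤ 2 * (6 * (2 * f)) := by gcongr
          omega
        · change _ ≤ 3 * q ^ 5
          rcases Nat.lt_or_ge q 4 with hq4 | hq4
          · have hq3' : q = 3 := by omega
            have hf1 : f = 1 := by omega
            have hD4 : D ≤ 4 := by omega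
            have h1 : 16 * f * D ^ 2 ≤ 16 * f * 4 ^ 2 := by gcongr
            refine h1.trans ?_
            rw [hq3', hf1]
            norm_num
          · have h1 : 16 * f * D ^ 2 ≤ 16 * f * 6 ^ 2 := by gcongr
            have h2 : 256 * q ≤ q ^ 5 := by
              have : 4 ^ 4 ≤ q ^ 4 := Nat.pow_le_pow_left hq4 4
              calc 256 * q ≤ q ^ 4 * q := by gcongr; omega
                _ = q ^ 5 := by ring
            omega

/-! ### `PSU_3(q)` -/

theorem psu_three {G : Type u} [Group G] [Finite G] (hs' : IsSimpleGroup G) {p f q D : ℕ} (hp : p.Prime)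
    (hL : IsLieTypeChar p G) (hq : q = p ^ f) (hf : 1 ≤ f) (hD : D = Nat.gcd 3 (q + 1)) (hq3 : 3 ≤ q)
    (hS : D * Nat.card G = q ^ 3 * ((q ^ 2 - 1) * (q ^ 3 + 1)))
    (ho : Nat.card (Out G) = D * (2 * f)) : Crit G := by
  have hf2 : 2 * f ≤ q := two_mul_f_le hp.two_le hf hq
  have hDn : D ∣ 3 := hD ▸ Nat.gcd_dvd_left _ _
  have hDq : D ∣ q + 1 := hD ▸ Nat.gcd_dvd_right _ _
  have hlpos := up_pos (q := q) (by omega) 2
  have hlcop := up_cop (q := q) (by omega) 2
  rw [up_two] at hlpos hlcop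
  have h3q : 3 * q ≤ q ^ 2 := by nlinarith only [hq3]
  have e3 : q ^ 3 + 1 = (q + 1) * (q ^ 2 - q + 1) := by
    have h1 : q ≤ q ^ 2 := by linarith only [h3q]
    zify [h1]
    ring
  have hc1 : ∀ b, b ∣ q ^ 2 - q + 1 → ¬ 3 ∣ b → Nat.Coprime (q ^ 2 - 1) b := by
    intro b hb hb3
    have e2 : q ^ 2 - 1 = (q - 1) * (q + 1) := by
      have h1 : 1 ≤ q := by omega
      have h2' : 1 ≤ q ^ 2 := by linarith only [hq3, h3q]
      zify [h1, h2']
      ring
    rw [e2]
    apply Nat.Coprime.mul_left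
    · have h4 : Nat.Coprime (q - 1) (q ^ 2 - q + 1) := by
        have h6 : q ^ 2 - q + 1 = 1 + (q - 1) * q := by
          have h1 : 1 ≤ q := by omega
          have h2' : q ≤ q ^ 2 := by linarith only [h3q]
          zify [h1, h2']
          ring
        rw [h6, Nat.coprime_add_mul_left_right]
        exact Nat.coprime_one_right _
      exact Nat.Coprime.coprime_dvd_right hb h4
    · -- `gcd (q + 1) b ∣ 3`
      have h1 : Nat.gcd (q + 1) b ∣ 3 := by
        have h4 : Nat.gcd (q + 1) b ∣ q ^ 2 - q + 1 := (Nat.gcd_dvd_right _ _).trans hb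
        have h5 : Nat.gcd (q + 1) b ∣ (q + 1) * (q - 2) := (Nat.gcd_dvd_left _ _).mul_right _
        have h6 : q ^ 2 - q + 1 = (q + 1) * (q - 2) + 3 := by
          have h1 : 2 ≤ q := by omega
          have h2' : q ≤ q ^ 2 := by linarith only [h3q]
          zify [h1, h2']
          ring
        rw [h6] at h4
        exact (Nat.dvd_add_right h5).1 h4
      rcases (Nat.dvd_prime Nat.prime_three).1 h1 with h4 | h4
      · exact h4
      · exfalso
        apply hb3
        rw [← h4]
        exact Nat.gcd_dvd_right _ _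
  rcases (Nat.dvd_prime Nat.prime_three).1 hDn with hD1 | hD1
  · rw [hD1] at hS ho
    have hn3 : ¬ 3 ∣ q ^ 2 - q + 1 := by
      intro hd
      have h1 : ¬ 3 ∣ q + 1 := by
        intro h4
        have h5 : 3 ∣ Nat.gcd 3 (q + 1) := Nat.dvd_gcd dvd_rfl h4
        rw [← hD, hD1] at h5
        omega
      have h6 : q ^ 2 - q + 1 = (q + 1) * (q - 2) + 3 := by
        have h1 : 2 ≤ q := by omega
        have h2' : q ≤ q ^ 2 := by linarith only [h3q]
        zify [h1, h2']
        ring
      rw [h6] at hd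
      have h7 : 3 ∣ (q + 1) * (q - 2) := (Nat.dvd_add_left (dvd_refl 3)).1 hd
      rcases (Nat.Prime.dvd_mul Nat.prime_three).1 h7 with h8 | h8
      · exact h1 h8
      · exact h1 (by omega)
    refine crit_num (N := 3) (D := 1) (M' := (q ^ 2 - 1) * (q ^ 3 + 1)) (o := 1 * (2 * f)) (a := q ^ 2 - 1)
      (b := q ^ 2 - q + 1) hs' hL hq hf hS hlcop ho.le (hc1 _ dvd_rfl hn3) ?_ ?_ ?_ ?_ hlpos
    · rw [e3]
      exact ⟨q + 1, by ring⟩
    · omega
    · omega
    · have h4 : 2 * (1 * (2 * f)) * q ^ 3 * 1 ≤ (2 * q) * q ^ 3 := by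
        have : 2 * (1 * (2 * f)) ≤ 2 * q := by omega
        calc 2 * (1 * (2 * f)) * q ^ 3 * 1 = 2 * (1 * (2 * f)) * q ^ 3 := by ring
          _ ≤ (2 * q) * q ^ 3 := by gcongr
      refine h4.trans ?_
      have h5 : 2 * q ≤ q ^ 2 - 1 := by omega
      exact Nat.mul_le_mul h5 (by omega)
  · rw [hD1] at hS ho hDq
    obtain ⟨t, ht⟩ := hDq
    obtain ⟨t, rfl⟩ : ∃ s, t = s + 1 := ⟨t - 1, by omega⟩
    have hqt : q = 3 * t + 2 := by omega
    have hb : q ^ 2 - q + 1 = 3 * (3 * t ^ 2 + 3 * t + 1) := by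
      rw [hqt]
      have : 3 * t + 2 ≤ (3 * t + 2) ^ 2 := by nlinarith only []
      zify [this]
      ring
    by_cases hex : q = 5 ∨ q = 8
    · rcases hex with hq5 | hq8
      · -- `U_3(5)`
        have hf1 : f = 1 := by
          by_contra hne
          have h2 : f = 2 := by omega
          rw [h2, hq5] at hq
          have h4 : p = 2 ∨ 3 ≤ p := by have := hp.two_le; omega
          rcases h4 with h4 | h4
          · rw [h4] at hq; omega
          · have : 3 ^ 2 ≤ p ^ 2 := Nat.pow_le_pow_left h4 2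
            omega
        have hp5 : p = 5 := by rw [hf1, pow_one] at hq; omega
        rw [hq5] at hS
        rw [hf1] at ho
        have hcard : Nat.card G = 126000 := by
          norm_num at hS
          omega
        norm_num at ho
        obtain ⟨x, hx⟩ := exists_reg (N := 3) (M := 1008) hs' hL (by rw [hcard, hp5]; norm_num) (by rw [hp5]; norm_num)
        rw [hp5] at hx
        refine crit_expl x hcard (by norm_num) ho hx [(2, 4, 1), (3, 2, 1), (5, 3, 0), (7, 1, 0)] (by norm_num) ?_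
          (by norm_num)
        intro t ht
        simp only [List.mem_cons, List.not_mem_nil, or_false] at ht
        rcases ht with rfl | rfl | rfl | rfl <;> norm_num
      · -- `U_3(8)`
        have hp2 : p = 2 := by
          have h1 : p ∣ 2 ^ 3 := by
            have : p ∣ q := by rw [hq]; exact dvd_pow_self p (by omega)
            rw [hq8] at this
            exact this
          exact (Nat.prime_dvd_prime_iff_eq hp Nat.prime_two).1 (hp.dvd_of_dvd_pow h1)
        have hf3 : f = 3 := by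
          rw [hp2, hq8] at hq
          have h1 : (2 : ℕ) ^ 3 = 2 ^ f := by rw [← hq]; norm_num
          exact (Nat.pow_right_injective le_rfl h1).symm
        rw [hq8] at hS
        rw [hf3] at ho
        have hcard : Nat.card G = 5515776 := by
          norm_num at hS
          omega
        norm_num at ho
        obtain ⟨x, hx⟩ := exists_reg (N := 9) (M := 10773) hs' hL (by rw [hcard, hp2]; norm_num) (by rw [hp2]; norm_num)
        rw [hp2] at hx
        refine crit_expl x hcard (by norm_num) ho hx [(2, 9, 1), (3, 4, 2), (7, 1, 0), (19, 1, 0)] (by norm_num) ?_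
          (by norm_num)
        intro t ht
        simp only [List.mem_cons, List.not_mem_nil, or_false] at ht
        rcases ht with rfl | rfl | rfl | rfl <;> norm_num
    · have hkey : 36 * f ≤ q ^ 2 - q + 1 := by
        rcases Nat.lt_or_ge q 19 with h19 | h19
        · have h2f : 2 ^ f ≤ q := by rw [hq]; exact Nat.pow_le_pow_left hp.two_le f
          have hf5 : f < 5 := by
            by_contra hcon
            have : 2 ^ 5 ≤ 2 ^ f := Nat.pow_le_pow_right (by norm_num) (by omega)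
            omega
          have ht' : t = 3 ∨ t = 4 ∨ t = 5 := by (clear * - hq3 ht hex h19; omega)
          have hf4 : q < 16 → f ≤ 3 := by
            intro h16
            by_contra hcon
            have : 2 ^ 4 ≤ 2 ^ f := Nat.pow_le_pow_right (by norm_num) (by omega)
            omega
          rcases ht' with rfl | rfl | rfl
          · have hq7 : q = 11 := hqt
            have := hf4 (by omega)
            rw [hq7]
            omega
          · have hq7 : q = 14 := hqt
            have := hf4 (by omega)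
            rw [hq7]
            omega
          · have hq7 : q = 17 := hqt
            rw [hq7]
            omega
        · have : 19 * q ≤ q ^ 2 := by nlinarith only [h19]
          (clear * - hf2 this; omega)
      refine crit_num (N := 3) (D := 3) (M' := (q ^ 2 - 1) * (q ^ 3 + 1)) (o := 3 * (2 * f)) (a := q ^ 2 - 1)
        (b := 3 * t ^ 2 + 3 * t + 1) hs' hL hq hf hS hlcop ho.le (hc1 _ ?_ ?_) ?_ ?_ ?_ ?_ hlpos
      · rw [hb]
        exact Dvd.intro_left 3 rfl
      · omega
      · rw [e3, hb]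
        exact ⟨q + 1, by ring⟩
      · (clear * - hkey; omega)
      · omega
      · calc 2 * (3 * (2 * f)) * q ^ 3 * 3 = (36 * f) * q ^ 3 := by ring
          _ ≤ (q ^ 2 - 1) * (q ^ 3 + 1) := Nat.mul_le_mul (by (clear * - hb hkey; omega)) (by omega)

theorem crit_psu {G : Type u} [Group G] [Finite G] (hs' : IsSimpleGroup G) (hna : ¬ IsMulCommutative G)
    (hG : IsPSU G) : Crit G := by
  obtain ⟨F, iF, iF', n, q, hFq, hn, h32, ⟨e⟩⟩ := hG
  have hfin : Finite (PSU n F q) := Finite.of_equiv _ e.toEquiv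
  obtain ⟨p, m, hp, hm, hF, hch⟩ := field_data F
  have : Fact p.Prime := ⟨hp⟩
  have hL1 : IsPSUChar p G := ⟨F, iF, iF', hch, n, q, hFq, hn, h32, ⟨e⟩⟩
  have hL : IsLieTypeChar p G := Or.inr (Or.inr (Or.inl hL1))
  obtain ⟨f, -, hq⟩ : ∃ f ≤ m, q = p ^ f := by
    rw [← Nat.dvd_prime_pow hp, ← hF, hFq]
    exact dvd_pow_self q (by norm_num)
  have hf : 1 ≤ f := by
    by_contra hcon
    have hf0 : f = 0 := by omega
    rw [hf0, pow_zero] at hq
    rw [hq, one_pow] at hFq
    have := Fintype.one_lt_card (α := F)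
    omega
  have hA := Cfsg.Agent.S0815.result p f hf hq hFq n hn h32
  have ho := card_out_of_mulAut (simple_congr e hs') (comm_congr e hna) hA
  rw [← card_out_congr e] at ho
  have hS := Cfsg.Agent.S0280.result hFq n (by omega)
  rw [← Nat.card_congr e.toEquiv] at hS
  have hq2 : 2 ≤ q := by
    rw [hq]
    calc 2 ≤ p := hp.two_le
      _ = p ^ 1 := (pow_one p).symm
      _ ≤ p ^ f := Nat.pow_le_pow_right hp.pos hf
  obtain ⟨k, rfl⟩ : ∃ k, n = k + 2 + 1 := ⟨n - 3, by omega⟩
  rw [prod_un, ← Finset.sum_range_id] at hS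
  have hS' : Nat.gcd (k + 3) (q + 1) * Nat.card G =
      q ^ (∑ i ∈ Finset.range (k + 2 + 1), i) * up q (k + 2) := by
    apply Nat.eq_of_mul_eq_mul_left (show 0 < q + 1 by omega)
    rw [show (q + 1) * (q ^ (∑ i ∈ Finset.range (k + 2 + 1), i) * up q (k + 2)) =
      q ^ (∑ i ∈ Finset.range (k + 2 + 1), i) * ((q + 1) * up q (k + 2)) by ring, ← hS]
    ring
  rcases Nat.eq_zero_or_pos k with hk | hk
  · subst hk
    have e3 : ∑ i ∈ Finset.range (0 + 2 + 1), i = 3 := by decide
    rw [e3, show (0 : ℕ) + 3 = 3 by norm_num, show (0 : ℕ) + 2 = 2 by norm_num, up_two] at hS'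
    have hq22 : q ≠ 2 := fun h => h32 ⟨rfl, h⟩
    exact psu_three hs' hp hL hq hf rfl (by omega) hS' ho
  · exact psu_four_le hs' hp hL hq hf hk rfl hS' ho

end Cfsg.Agent.H548.RowPSU
end
end
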