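import Mathlib
import Cfsg.Agent.OddOrderLocal.CNBasic
import Cfsg.Agent.H548.InvSub
import Cfsg.Agent.Solvable.FpfThompson
import Cfsg.Agent.Transfer.NormalPComplement
set_option linter.all false

-- part: H548/NilMax
section
/-!
Elementary facts on nilpotent subgroups of finite groups containing Sylow subgroups.
-/

set_option autoImplicit false

namespace Cfsg.Agent.H548.NilMax

open Subgroup

variable {G : Type*} [Group G]

/-- A subgroup of a nilpotent subgroup is nilpotent. -/
theorem nilp_of_le {H K : Subgroup G} (h : H ≤ K) (hK : Group.IsNilpotent K) :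
    Group.IsNilpotent H := by
  have := hK
  exact Group.nilpotent_of_mulEquiv (Subgroup.subgroupOfEquivOfLe h)

/-- A nilpotent subgroup containing a Sylow subgroup normalizes it. -/
theorem le_normalizer_of_nilp [Finite G] {p : ℕ} [Fact p.Prime] (P : Sylow p G) {H : Subgroup G}
    (hH : Group.IsNilpotent H) (hPH : (P : Subgroup G) ≤ H) :
    H ≤ normalizer ((P : Subgroup G) : Set G) := by
  have := hH
  have hN : ((P.subtype hPH : Sylow p H) : Subgroup H).Normal := inferInstance
  rw [Sylow.coe_subtype] at hN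
  rw [← Subgroup.normal_subgroupOf_iff_le_normalizer hPH]
  exact hN

/-- Elements of coprime orders in a nilpotent subgroup commute. -/
theorem commute_of_mem [Finite G] {H : Subgroup G} (hH : Group.IsNilpotent H) {a b : G}
    (ha : a ∈ H) (hb : b ∈ H) (h : (orderOf a).Coprime (orderOf b)) : Commute a b :=
  OddOrderLocal.CNBasic.commute_of_mem_of_coprime hH ha hb h

/-- A subgroup whose index is divisible by no prime is the whole group. -/
theorem eq_top_of_forall_not_dvd_index [Finite G] (K : Subgroup G)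
    (h : ∀ q : ℕ, q.Prime → ¬ q ∣ K.index) : K = ⊤ := by
  rw [← Subgroup.index_eq_one]
  by_contra h1
  obtain ⟨q, hq, hqd⟩ := Nat.exists_prime_and_dvd h1
  exact h q hq hqd

/-- If `K` contains a Sylow `q`-subgroup, `q` does not divide its index. -/
theorem not_dvd_index_of_le [Finite G] {q : ℕ} [Fact q.Prime] (Q : Sylow q G) {K : Subgroup G}
    (h : (Q : Subgroup G) ≤ K) : ¬ q ∣ K.index := fun hd =>
  Q.not_dvd_index (hd.trans (Subgroup.index_dvd_of_le h))

/-- Indices of normalizers of Sylow `p`-subgroups agree. -/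
theorem index_normalizer_sylow_eq [Finite G] {p : ℕ} [Fact p.Prime] (P P' : Sylow p G) :
    (normalizer ((P : Subgroup G) : Set G)).index =
      (normalizer ((P' : Subgroup G) : Set G)).index := by
  exact (P.card_eq_index_normalizer).symm.trans P'.card_eq_index_normalizer

end Cfsg.Agent.H548.NilMax
end

-- part: H548/NpcCase
section
/-!
Groups with a normal `p`-complement all of whose proper invariant subgroups of order divisible by `p`
are nilpotent.
-/

set_option autoImplicit false

namespace Cfsg.Agent.H548.NpcCase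

open Subgroup Cfsg.Agent.H548.NilMax Cfsg.Agent.H548.InvSub

section

variable {G : Type*} [Group G]

/-- If `H ⊔ K = ⊤` with `K` a normal `p'`-subgroup then `p` does not divide the index of `H`. -/
theorem not_dvd_index_of_sup [Finite G] {p : ℕ} (hp : p.Prime) {H K : Subgroup G} [K.Normal]
    (hK : ¬ p ∣ Nat.card K) (h : H ⊔ K = ⊤) : ¬ p ∣ H.index := by
  intro hd
  have h1 : K.index = K.relIndex H := by
    rw [← Subgroup.relIndex_sup_left, sup_comm, h, Subgroup.relIndex_top_right]
  have h2 : K.index ∣ Nat.card H := by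
    rw [h1]
    exact Subgroup.relIndex_dvd_card K H
  obtain ⟨c, hc⟩ := h2
  have h3 : Nat.card H * H.index = Nat.card K * K.index := by
    rw [Subgroup.card_mul_index, Subgroup.card_mul_index]
  rw [hc] at h3
  have h4 : c * H.index = Nat.card K := by
    have hpos : 0 < K.index := Nat.pos_of_ne_zero Subgroup.index_ne_zero_of_finite
    apply Nat.eq_of_mul_eq_mul_right hpos
    rw [← h3]; ring
  exact hK (h4 ▸ (hd.mul_left c))

/-- A subgroup whose index is prime to `p` contains a Sylow `p`-subgroup. -/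
theorem exists_sylow_le [Finite G] {p : ℕ} [hp : Fact p.Prime] {H : Subgroup G}
    (h : ¬ p ∣ H.index) : ∃ P : Sylow p G, (P : Subgroup G) ≤ H := by
  obtain ⟨P⟩ : Nonempty (Sylow p H) := inferInstance
  have hPp : IsPGroup p ((P : Subgroup H).map H.subtype) := P.isPGroup'.map _
  obtain ⟨Q, hQ⟩ := hPp.exists_le_sylow
  refine ⟨Q, ?_⟩
  have h1 : Nat.card ((P : Subgroup H).map H.subtype) = Nat.card (P : Subgroup H) :=
    Subgroup.card_map_of_injective H.subtype_injective
  have h2 : Nat.card (P : Subgroup H) = Nat.card (Q : Subgroup G) := by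
    have e1 : Nat.card (P : Subgroup H) = _ := P.card_eq_multiplicity
    have e2 : Nat.card (Q : Subgroup G) = _ := Q.card_eq_multiplicity
    rw [e1, e2, ← H.card_mul_index, Nat.factorization_mul Nat.card_pos.ne'
      Subgroup.index_ne_zero_of_finite, Finsupp.add_apply, Nat.factorization_eq_zero_of_not_dvd h,
      add_zero]
  have h3 : (P : Subgroup H).map H.subtype = (Q : Subgroup G) :=
    Subgroup.eq_of_le_of_card_ge hQ (by rw [h1, h2])
  rw [← h3]
  exact Subgroup.map_subtype_le _

end

variable {A G : Type*} [Group A] [Group G] [MulDistribMulAction A G]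

/-- **Normal complement case.** -/
theorem npc_case [Finite G] {p : ℕ} [hp : Fact p.Prime] (hpG : p ∣ Nat.card G)
    (hnil : ∀ H : Subgroup G, H ≠ ⊤ → Inv A H → p ∣ Nat.card H → Group.IsNilpotent H)
    (hsyl : ∀ q : ℕ, ∀ _ : Fact q.Prime, ∃ Q : Sylow q G, Inv A (Q : Subgroup G))
    (K : Subgroup G) (hK : K.Normal) (hKp : (Nat.card K).Coprime p)
    (hKG : IsPGroup p (G ⧸ K)) :
    (∃ P : Sylow p G, Inv A (P : Subgroup G) ∧ (P : Subgroup G).Normal) ∨
      ∃ (q : ℕ) (_ : Fact q.Prime) (P : Sylow p G) (Q : Sylow q G), q ≠ p ∧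
        Inv A (P : Subgroup G) ∧ Inv A (Q : Subgroup G) ∧
        (Q : Subgroup G).Normal ∧ (P : Subgroup G) ⊔ (Q : Subgroup G) = ⊤ := by
  by_contra hcon
  push Not at hcon
  obtain ⟨hc1, hc2⟩ := hcon
  obtain ⟨P, hP⟩ := hsyl p hp
  have hPn := hc1 P hP
  have hdP : ∀ P' : Sylow p G, p ∣ Nat.card (P' : Subgroup G) := fun P' =>
    P'.dvd_card_of_dvd_card hpG
  apply hPn
  rw [← Subgroup.normalizer_eq_top_iff]
  apply eq_top_of_forall_not_dvd_index
  intro q hq
  have hqF : Fact q.Prime := ⟨hq⟩
  by_cases hqp : q = p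
  · subst hqp
    exact not_dvd_index_of_le P Subgroup.le_normalizer
  obtain ⟨Q, hQ⟩ := hsyl q hqF
  have hmemK : ∀ x : G, (orderOf x).Coprime p → x ∈ K := fun x hx =>
    (Cfsg.Agent.Transfer.NormalPComplement.mem_iff_coprime_orderOf' K hKp hKG x).mpr hx
  have hQK : (Q : Subgroup G) ≤ K := by
    intro x hx
    apply hmemK
    obtain ⟨k, hk⟩ := Q.isPGroup' ⟨x, hx⟩
    have hk' : x ^ q ^ k = 1 := congrArg Subtype.val hk
    apply Nat.Coprime.coprime_dvd_left (orderOf_dvd_of_pow_eq_one hk')
    exact Nat.Coprime.pow_left k ((Nat.coprime_primes hq hp.out).mpr hqp)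
  have hKnd : ¬ p ∣ Nat.card K := by
    rw [← Nat.Prime.coprime_iff_not_dvd hp.out]
    exact hKp.symm
  by_cases hQn : (Q : Subgroup G).Normal
  · have hne := hc2 q hqF P Q hqp hP hQ hQn
    have hn := hnil _ hne (hP.sup hQ) ((hdP P).trans (Subgroup.card_dvd_of_le le_sup_left))
    exact not_dvd_index_of_le Q (le_sup_right.trans (le_normalizer_of_nilp P hn le_sup_left))
  · have hne : normalizer ((Q : Subgroup G) : Set G) ≠ ⊤ := fun h =>
      hQn (Subgroup.normalizer_eq_top_iff.mp h)
    have hsup : normalizer ((Q : Subgroup G) : Set G) ⊔ K = ⊤ :=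
      Sylow.normalizer_sup_eq_top' Q hQK
    obtain ⟨P', hP'⟩ := exists_sylow_le (not_dvd_index_of_sup hp.out hKnd hsup)
    have hn := hnil _ hne hQ.normalizer ((hdP P').trans (Subgroup.card_dvd_of_le hP'))
    rw [index_normalizer_sylow_eq P P']
    exact not_dvd_index_of_le Q (Subgroup.le_normalizer.trans (le_normalizer_of_nilp P' hn hP'))

end Cfsg.Agent.H548.NpcCase
end
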